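import Mathlib

/-!
# The arithmetic of the case `p = 19`
-/

set_option autoImplicit false

namespace CfsgLib.DegreeSixteen

/-- One negative summand: only the trivial solution. -/
theorem cauchy_rigid {a b ca cb : ℝ} (ha : 0 < a) (hb : 0 < b)
    (h : (1 + ca + cb) ^ 2 / (1 + a + b) = 1 + ca ^ 2 / a + cb ^ 2 / b) : ca = a ∧ cb = b := by
  have hN : (0 : ℝ) < 1 + a + b := by linarith
  have h1 : (ca - a) ^ 2 * b + (cb - b) ^ 2 * a + (b * ca - a * cb) ^ 2 = 0 := by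
    field_simp at h
    linear_combination -h
  have e1 : 0 ≤ (ca - a) ^ 2 * b := by positivity
  have e2 : 0 ≤ (cb - b) ^ 2 * a := by positivity
  have e3 := sq_nonneg (b * ca - a * cb)
  have f1 : (ca - a) ^ 2 * b = 0 := by linarith
  have f2 : (cb - b) ^ 2 * a = 0 := by linarith
  simp only [mul_eq_zero, pow_eq_zero_iff two_ne_zero, sub_eq_zero, ha.ne', hb.ne', or_false] at f1 f2
  exact ⟨f1, f2⟩

/-- The degrees and multiplicities, sign `+`. -/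
theorem arith_plus {xX xZ y mX mZ V : ℤ} (hX : 18 ≤ xX) (hZ : 18 ≤ xZ) (hy : 4 ≤ y)
    (hyr : y % 19 = 16) (hmX : 0 ≤ mX) (hmZ : 0 ≤ mZ)
    (hsum : 48 = 18 * (1 - mX - mZ) + 3 * V)
    (hrel : 1 - xX - xZ + y = 0) (hdeg : 1 + mX * xX + mZ * xZ + V * y ≤ 256) : False := by
  have hV : 10 ≤ V := by omega
  have h0 : 0 ≤ mX * xX := mul_nonneg hmX (by omega)
  have h1 : 0 ≤ mZ * xZ := mul_nonneg hmZ (by omega)
  have h2 : 10 * y ≤ V * y := mul_le_mul_of_nonneg_right hV (by omega)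
  omega

/-- The degrees and multiplicities, sign `-`. -/
theorem arith_minus {xX xZ y mX mZ V : ℤ} (hXr : xX % 19 = 1) (hZ : 18 ≤ xZ) (hy : 4 ≤ y)
    (hyr : y % 19 = 3) (hX58 : xX ≠ 58) (hy41 : y ≠ 41) (hmX : 0 ≤ mX) (hmZ : 0 ≤ mZ)
    (hA : 3 ≤ 1 + mX - mZ) (hsum : 48 = 18 * (1 + mX - mZ) - 3 * V)
    (hrel : 1 + xX - xZ - y = 0) (hdeg : 1 + mX * xX + mZ * xZ + V * y ≤ 256) :
    y = 22 ∧ ((xX = 39 ∧ xZ = 18) ∨ (xX = 77 ∧ xZ = 56 ∧ mX = 2 ∧ mZ = 0 ∧ V = 2) ∨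
      (xX = 96 ∧ xZ = 75)) := by
  have hV : V = 6 * (1 + mX - mZ) - 16 := by omega
  have hm2 : 2 ≤ mX := by omega
  have h0 : 0 ≤ mZ * xZ := mul_nonneg hmZ (by omega)
  have h1 : 2 * xX ≤ mX * xX := mul_le_mul_of_nonneg_right hm2 (by omega)
  have hV2 : 2 ≤ V := by omega
  have h2 : 2 * y ≤ V * y := mul_le_mul_of_nonneg_right hV2 (by omega)
  have hcases : y = 22 ∧ (xX = 39 ∨ xX = 77 ∨ xX = 96) := by omega
  obtain ⟨hy22, hx⟩ := hcases
  refine ⟨hy22, ?_⟩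
  rcases hx with rfl | rfl | rfl
  · exact Or.inl ⟨rfl, by omega⟩
  · refine Or.inr (Or.inl ⟨rfl, by omega, ?_⟩)
    subst hy22
    obtain rfl : xZ = 56 := by omega
    omega
  · exact Or.inr (Or.inr ⟨rfl, by omega⟩)

/-- The value at an involution of a row of degree congruent to `w` modulo 4. -/
def valAt (w : ℤ) (i : ℕ) : ℤ := -w + 4 * (i : ℤ) + 2 * (w % 2)

/-- The third value. -/
def valX (c0 cZ : ℤ) : ℤ := c0 + cZ - 1

/-- No involution values for the degrees `(22, 18, 39)`. -/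
theorem no_values_39 : ∀ i ∈ Finset.range 12, ∀ j ∈ Finset.range 10,
    valAt 22 i ≠ 22 → valX (valAt 22 i) (valAt 18 j) ≤ 39 →
      2574 + 66 * valX (valAt 22 i) (valAt 18 j) ^ 2 - 143 * valAt 18 j ^ 2 - 117 * valAt 22 i ^ 2 = 0 →
        False := by
  decide +kernel

/-- No involution values for the degrees `(22, 75, 96)`. -/
theorem no_values_96 : ∀ i ∈ Finset.range 12, ∀ j ∈ Finset.range 38,
    valAt 22 i ≠ 22 → valX (valAt 22 i) (valAt 75 j) ≤ 96 →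
      26400 + 275 * valX (valAt 22 i) (valAt 75 j) ^ 2 - 352 * valAt 75 j ^ 2 -
        1200 * valAt 22 i ^ 2 = 0 → False := by
  decide +kernel

/-- The involution values for the degrees `(22, 56, 77)`. -/
theorem values_77 : ∀ i ∈ Finset.range 12, ∀ j ∈ Finset.range 29,
    valAt 22 i ≠ 22 →
      616 + 8 * valX (valAt 22 i) (valAt 56 j) ^ 2 - 11 * valAt 56 j ^ 2 - 28 * valAt 22 i ^ 2 = 0 →
      0 ≤ 616 + 8 * valX (valAt 22 i) (valAt 56 j) + 11 * valAt 56 j + 448 * valAt 22 i →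
      0 ≤ 616 + 8 * valX (valAt 22 i) (valAt 56 j) + 11 * valAt 56 j - 84 * valAt 22 i →
      valX (valAt 22 i) (valAt 56 j) ≤ 77 →
        ∀ t ∈ Finset.range 9,
          19 * 2 * (t : ℤ) * 616 ≤ 16 *
            (2 * (616 + 8 * valX (valAt 22 i) (valAt 56 j) + 11 * valAt 56 j) + 364 * valAt 22 i) →
          (2 * (t : ℤ)) ^ 2 - 1 - 2 * valX (valAt 22 i) (valAt 56 j) - 2 * valAt 22 i ≤ 57 →
          -57 ≤ (2 * (t : ℤ)) ^ 2 - 1 - 2 * valX (valAt 22 i) (valAt 56 j) - 2 * valAt 22 i →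
            (2 * (t : ℤ)) ^ 2 - 1 - 2 * valX (valAt 22 i) (valAt 56 j) - 2 * valAt 22 i ≤ -23 := by
  decide +kernel

theorem exists_valAt {w c : ℤ} (h1 : -w ≤ c) (h2 : c ≤ w) (h3 : c % 4 = w % 4) :
    ∃ i : ℕ, valAt w i = c ∧ 4 * (i : ℤ) + 2 * (w % 2) ≤ 2 * w := by
  obtain ⟨k, hk⟩ : ∃ k : ℤ, c + w - 2 * (w % 2) = 4 * k := ⟨(c + w - 2 * (w % 2)) / 4, by omega⟩
  refine ⟨k.toNat, ?_, ?_⟩ <;> first | (simp only [valAt]; omega) | omega

end CfsgLib.DegreeSixteen
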