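import Cfsg.Agent.DegreeSixteen.Core.Local
import Cfsg.Agent.BrauerOrderP.SubTwoBlock

/-!
# The characters over a linear character of a central complement

For `L.K = Z(G)`, a linear character `φ` of `K` and fewer exponents of conjugation than `p - 1`:
the characters over `φ` with nonzero coefficients are constant rows and unit rows.
-/

set_option autoImplicit false
set_option linter.style.haveILetI false
set_option linter.unusedSectionVars false

namespace CfsgLib.DegreeSixteen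

open Cfsg CfsgLib.Characters CfsgLib.SmallDegreeP CfsgLib.DefectOne
open scoped ComplexConjugate

universe u

variable {p : ℕ} [hp : Fact p.Prime] {G : Type u} [Group G] [Fintype G] (L : Local p G)

/-- The class function has central character `φ` on `K`. -/
def Over (φ : L.K →* ℂˣ) (F : G → ℂ) : Prop :=
  ∀ (g : G) (k : L.K), F (g * k) = (φ k : ℂ) * F g

/-- A linear character of `K` as an irreducible character. -/
noncomputable def irrK (φ : L.K →* ℂˣ) : IrrCharacter L.K :=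
  ⟨fun k => (φ k : ℂ), isIrr_linChar φ⟩

/-- All coefficients equal `a`. -/
def Flat (u : G) (F : G → ℂ) (a : ℤ) : Prop := ∀ l : ZMod p, l ≠ 0 → cc u F l = a

/-- The coefficients are `s` on one orbit and zero elsewhere. -/
def Unit1 (u : G) (hup : u ^ p = 1) (F : G → ℂ) (l₁ : ZMod p) (s : ℤ) : Prop :=
  ∀ l : ZMod p, l ≠ 0 → (SameOrb u hup l₁ l → cc u F l = s) ∧ (¬ SameOrb u hup l₁ l → cc u F l = 0)

variable {L} {u : G} (hu : u ∈ (L.P : Subgroup G)) (hu1 : u ≠ 1)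
  (hKc : L.K = Subgroup.center G)

theorem sameOrb_refl {hup : u ^ p = 1} (l : ZMod p) : SameOrb u hup l l :=
  ⟨1, one_mem _, by simp⟩

theorem sameOrb_symm {hup : u ^ p = 1} {l m : ZMod p} (h : SameOrb u hup l m) : SameOrb u hup m l := by
  obtain ⟨a, ha, rfl⟩ := h
  exact ⟨a⁻¹, inv_mem ha, by rw [← mul_assoc, Units.inv_mul, one_mul]⟩

theorem sameOrb_trans {hup : u ^ p = 1} {l m k : ZMod p} (h : SameOrb u hup l m)
    (h' : SameOrb u hup m k) : SameOrb u hup l k := by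
  obtain ⟨a, ha, rfl⟩ := h
  obtain ⟨b, hb, rfl⟩ := h'
  exact ⟨b * a, mul_mem hb ha, by rw [Units.val_mul, mul_assoc]⟩

theorem out_irrK (hKc : L.K = Subgroup.center G) (φ : L.K →* ℂˣ) :
    (Quotient.out (L.orb (irrK L φ)) : IrrCharacter L.K) = irrK L φ :=
  BrauerOrderP.out_orb_central L hKc _

/-- Every irreducible character has a central character on `K`. -/
theorem exists_over (hKc : L.K = Subgroup.center G) (χ : IrrCharacter G) :
    ∃ φ : L.K →* ℂˣ, Over L φ (χ : G → ℂ) := by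
  obtain ⟨n, ρ, hρ, hχ⟩ := χ.2
  haveI := hρ
  haveI := nontrivial_of_isIrreducible ρ
  have hex : ∀ k : L.K, ∃ c : ℂ, ρ k = c • LinearMap.id := fun k =>
    central_scalar ρ (hKc ▸ k.2 : (k : G) ∈ Subgroup.center G)
  choose c hc using hex
  obtain ⟨v, hv⟩ := exists_ne (0 : Fin n → ℂ)
  have hap : ∀ k : L.K, ρ k v = c k • v := fun k => by rw [hc]; rfl
  let f : L.K →* ℂ :=
    { toFun := c
      map_one' := smul_left_injective ℂ hv (show c 1 • v = (1 : ℂ) • v by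
        rw [← hap, OneMemClass.coe_one, map_one, one_smul, Module.End.one_apply])
      map_mul' := fun a b => smul_left_injective ℂ hv (show c (a * b) • v = (c a * c b) • v by
        rw [← hap, Subgroup.coe_mul, map_mul, Module.End.mul_apply, hap, map_smul, hap, smul_smul,
          mul_comm]) }
  refine ⟨f.toHomUnits, fun g k => ?_⟩
  rw [← hχ]
  show LinearMap.trace ℂ _ (ρ (g * k)) = c k * LinearMap.trace ℂ _ (ρ g)
  rw [map_mul, hc, mul_smul_comm, map_smul, smul_eq_mul]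
  rfl

theorem over_unique {φ ψ : L.K →* ℂˣ} (χ : IrrCharacter G) (h : Over L φ (χ : G → ℂ))
    (h' : Over L ψ (χ : G → ℂ)) : φ = ψ := by
  refine MonoidHom.ext fun k => Units.ext ?_
  exact mul_right_cancel₀ (irr_one_ne_zero χ.2) ((h 1 k).symm.trans (h' 1 k))

theorem sum_K_orth [Fintype L.K] (φ ψ : L.K →* ℂˣ) :
    ∑ k : L.K, (ψ k : ℂ) * conj (φ k : ℂ) = if ψ = φ then (Nat.card L.K : ℂ) else 0 := by
  split_ifs with h
  · subst h
    have h1 := classInner_isIrr_self (isIrr_linChar ψ)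
    rw [Cfsg.classInner, inv_mul_eq_iff_eq_mul₀ natCard_ne_zero, mul_one] at h1
    exact h1
  · have h1 := classInner_isIrr_ne (isIrr_linChar ψ) (isIrr_linChar φ) fun e =>
      h (MonoidHom.ext fun k => Units.ext (congrFun e k))
    rwa [Cfsg.classInner, mul_eq_zero, inv_eq_zero, or_iff_right natCard_ne_zero] at h1

include hu hu1 hKc

open Classical in
/-- The coefficient of a character at a pair. -/
theorem cvec_eq_ite (χ : IrrCharacter G) (φ : L.K →* ℂˣ) (l : {l : ZMod p // l ≠ 0}) :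
    L.cvec χ (lam hu hu1 l, irrK L φ) = if Over L φ (χ : G → ℂ) then cc u (χ : G → ℂ) l.1 else 0 := by
  haveI := Fintype.ofFinite L.K
  haveI := Fintype.ofFinite (L.P : Subgroup G)
  letI := Fintype.ofFinite L.PK
  obtain ⟨ψ, hψ⟩ := exists_over hKc χ
  obtain ⟨e, he⟩ := exists_equivP hu hu1
  have h1 : ∀ (v : (L.P : Subgroup G)) (k : L.K), L.res (χ : G → ℂ) (v, k) *
      conj (L.psi (lam hu hu1 l, irrK L φ) (v, k)) =
        (χ : G → ℂ) v * (1 - conj ((lam hu hu1 l).1 v : ℂ)) * ((ψ k : ℂ) * conj (φ k : ℂ)) := by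
    intro v k
    simp only [Local.res, Local.psi, Local.emb_apply, map_mul, map_sub, map_one, irrK]
    rw [hψ]
    ring
  have h2 : L.cvec χ (lam hu hu1 l, irrK L φ) =
      cc u (χ : G → ℂ) l.1 * ((Nat.card L.K : ℂ)⁻¹ * ∑ k : L.K, (ψ k : ℂ) * conj (φ k : ℂ)) := by
    rw [L.cvec_eq, Cfsg.classInner, L.sum_PK, L.card_PK, Nat.cast_mul, mul_inv]
    simp only [h1, ← Finset.mul_sum, ← Finset.sum_mul]
    rw [cc, ← e.sum_comp, Finset.sum_congr rfl fun i _ => by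
      rw [show ((e i : (L.P : Subgroup G)) : G) = upow u i from he i,
        show e i = ⟨upow u i, pow_mem hu _⟩ from Subtype.ext (he i), lam_apply,
        ← AddChar.map_neg_eq_conj]]
    ring
  rw [h2, sum_K_orth]
  by_cases h : ψ = φ
  · subst h
    rw [if_pos rfl, if_pos hψ, inv_mul_cancel₀ natCard_ne_zero, mul_one]
  · rw [if_neg h, if_neg fun hφ => h (over_unique χ hψ hφ), mul_zero, mul_zero]

open Classical in
theorem cint_eq_ite (χ : IrrCharacter G) (φ : L.K →* ℂˣ) (l : {l : ZMod p // l ≠ 0}) :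
    (L.cint χ (L.colLam (L.orb (irrK L φ)) (lam hu hu1 l)).1 : ℂ) =
      if Over L φ (χ : G → ℂ) then cc u (χ : G → ℂ) l.1 else 0 := by
  rw [L.cint_colLam, out_irrK hKc, cvec_eq_ite hu hu1 hKc]

theorem colLam_irrK_eq_iff (φ : L.K →* ℂˣ) (l m : {l : ZMod p // l ≠ 0}) :
    L.colLam (L.orb (irrK L φ)) (lam hu hu1 l) = L.colLam (L.orb (irrK L φ)) (lam hu hu1 m) ↔
      SameOrb u (L.pow_p hu) l.1 m.1 :=
  colLam_eq_iff hu hu1 _ (fun n => by rw [BrauerOrderP.phiBy_central L hKc]) l m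

theorem exists_lam_col (φ : L.K →* ℂˣ) (q : L.ColOver (L.orb (irrK L φ))) :
    ∃ l : {l : ZMod p // l ≠ 0}, L.colLam (L.orb (irrK L φ)) (lam hu hu1 l) = q := by
  obtain ⟨x, hx⟩ := L.colLam_surjective (L.orb (irrK L φ)) q
  obtain ⟨l, hl⟩ := (lam_bijective hu hu1).2 x
  exact ⟨l, hl ▸ hx⟩

/-- The rows. -/
theorem row {χ : IrrCharacter G} {φ : L.K →* ℂˣ} (hχ : Over L φ (χ : G → ℂ)) :
    (∃ a : ℤ, (a = 0 ∨ a = 1 ∨ a = -1) ∧ Flat (p := p) u (χ : G → ℂ) a) ∨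
      ∃ l₁ : ZMod p, l₁ ≠ 0 ∧ ∃ s : ℤ, (s = 1 ∨ s = -1) ∧
        Unit1 u (L.pow_p hu) (χ : G → ℂ) l₁ s := by
  classical
  by_cases h : ∃ q : L.ColOver (L.orb (irrK L φ)), L.cint χ q.1 ≠ 0
  swap
  · push Not at h
    refine Or.inl ⟨0, Or.inl rfl, fun l hl => ?_⟩
    have h1 := cint_eq_ite hu hu1 hKc χ φ ⟨l, hl⟩
    rw [if_pos hχ, h] at h1
    exact h1.symm
  rcases L.rows (L.orb (irrK L φ)) χ h with ⟨a, ha, hc⟩ | ⟨q₀, s, hs, hc⟩
  · refine Or.inl ⟨a, ha.elim (fun e => Or.inr (Or.inl e)) (fun e => Or.inr (Or.inr e)),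
      fun l hl => ?_⟩
    have h1 := cint_eq_ite hu hu1 hKc χ φ ⟨l, hl⟩
    rw [if_pos hχ, hc] at h1
    exact h1.symm
  · obtain ⟨l₁, hl₁⟩ := exists_lam_col hu hu1 hKc φ q₀
    refine Or.inr ⟨l₁.1, l₁.2, s, hs, fun l hl => ?_⟩
    have h1 := cint_eq_ite hu hu1 hKc χ φ ⟨l, hl⟩
    have h2 := colLam_irrK_eq_iff hu hu1 hKc φ l₁ ⟨l, hl⟩
    rw [if_pos hχ, hc] at h1
    constructor
    · intro h3
      rw [if_pos ((h2.2 h3).symm.trans hl₁)] at h1
      exact h1.symm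
    · intro h3
      rw [if_neg fun e => h3 (h2.1 (hl₁.trans e.symm)), Int.cast_zero] at h1
      exact h1.symm

variable (ht : 2 * Nat.card (auts u (L.pow_p hu)) ≤ p - 1) {φ : L.K →* ℂˣ}

omit hKc in
theorem e_ge_one : 1 ≤ Nat.card (auts u (L.pow_p hu)) := Nat.card_pos

include ht

theorem one_lt_cols : 1 < Nat.card (L.ColOver (L.orb (irrK L φ))) := by
  have h := L.card_colOver_mul (L.orb (irrK L φ))
  rw [BrauerOrderP.eO_central L hKc, e_eq_card_auts hu hu1] at h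
  have he := e_ge_one hu hu1
  by_contra hle
  push Not at hle
  have := Nat.mul_le_mul_right (Nat.card (auts u (L.pow_p hu))) hle
  omega

theorem isUnitRow_of_unit1 {χ : IrrCharacter G} (hχ : Over L φ (χ : G → ℂ)) {l₁ : ZMod p}
    (hl₁ : l₁ ≠ 0) {s : ℤ} (hs : s = 1 ∨ s = -1) (h : Unit1 u (L.pow_p hu) (χ : G → ℂ) l₁ s) :
    L.IsUnitRow (L.orb (irrK L φ)) χ (L.colLam (L.orb (irrK L φ)) (lam hu hu1 ⟨l₁, hl₁⟩)) := by
  classical
  refine ⟨fun h0 => ?_, fun q hq => ?_⟩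
  · have h1 := cint_eq_ite hu hu1 hKc χ φ ⟨l₁, hl₁⟩
    rw [if_pos hχ, h0, (h l₁ hl₁).1 (sameOrb_refl l₁), Int.cast_zero, eq_comm, Int.cast_eq_zero] at h1
    omega
  · obtain ⟨m, rfl⟩ := exists_lam_col hu hu1 hKc φ q
    have h1 := cint_eq_ite hu hu1 hKc χ φ m
    rw [if_pos hχ, (h m.1 m.2).2 fun e =>
      hq ((colLam_irrK_eq_iff hu hu1 hKc φ ⟨l₁, hl₁⟩ m).2 e).symm] at h1
    exact_mod_cast h1

/-- At most one unit row on each orbit. -/
theorem unit1_eq {χ χ' : IrrCharacter G} (hχ : Over L φ (χ : G → ℂ)) (hχ' : Over L φ (χ' : G → ℂ))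
    {l₁ : ZMod p} (hl₁ : l₁ ≠ 0) {s s' : ℤ} (hs : s = 1 ∨ s = -1) (hs' : s' = 1 ∨ s' = -1)
    (h : Unit1 u (L.pow_p hu) (χ : G → ℂ) l₁ s) (h' : Unit1 u (L.pow_p hu) (χ' : G → ℂ) l₁ s') :
    χ = χ' := by
  classical
  haveI := L.finite_col
  haveI := Fintype.ofFinite (L.ColOver (L.orb (irrK L φ)))
  have ht' := one_lt_cols hu hu1 hKc ht (φ := φ)
  rw [Nat.card_eq_fintype_card] at ht'
  have hc := L.card_unitRow _ ht' (L.colLam (L.orb (irrK L φ)) (lam hu hu1 ⟨l₁, hl₁⟩))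
  exact Finset.card_le_one.1 hc.le χ
    (Finset.mem_filter.2 ⟨Finset.mem_univ _, isUnitRow_of_unit1 hu hu1 hKc ht hχ hl₁ hs h⟩) χ'
    (Finset.mem_filter.2 ⟨Finset.mem_univ _, isUnitRow_of_unit1 hu hu1 hKc ht hχ' hl₁ hs' h'⟩)

/-- A unit row on each orbit. -/
theorem exists_unit1 (φ : L.K →* ℂˣ) {l₁ : ZMod p} (hl₁ : l₁ ≠ 0) :
    ∃ χ : IrrCharacter G, Over L φ (χ : G → ℂ) ∧ ∃ s : ℤ, (s = 1 ∨ s = -1) ∧
      Unit1 u (L.pow_p hu) (χ : G → ℂ) l₁ s := by
  classical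
  haveI := L.finite_col
  haveI := Fintype.ofFinite (L.ColOver (L.orb (irrK L φ)))
  have ht' := one_lt_cols hu hu1 hKc ht (φ := φ)
  rw [Nat.card_eq_fintype_card] at ht'
  set q₁ := L.colLam (L.orb (irrK L φ)) (lam hu hu1 ⟨l₁, hl₁⟩)
  obtain ⟨χ, hχ⟩ := Finset.card_pos.1 (Nat.lt_of_lt_of_eq Nat.zero_lt_one (L.card_unitRow _ ht' q₁).symm)
  obtain ⟨h0, hz⟩ := (Finset.mem_filter.1 hχ).2
  have h1 := cint_eq_ite hu hu1 hKc χ φ ⟨l₁, hl₁⟩
  have hov : Over L φ (χ : G → ℂ) := by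
    by_contra hn
    rw [if_neg hn, Int.cast_eq_zero] at h1
    exact h0 h1
  refine ⟨χ, hov, ?_⟩
  obtain ⟨q', hq'⟩ := Fintype.exists_ne_of_one_lt_card ht' q₁
  rcases row hu hu1 hKc hov with ⟨a, -, ha⟩ | ⟨m, hm, s, hs, hu'⟩
  · exfalso
    obtain ⟨m, rfl⟩ := exists_lam_col hu hu1 hKc φ q'
    have h2 := cint_eq_ite hu hu1 hKc χ φ m
    rw [if_pos hov, hz _ hq', ha m.1 m.2, Int.cast_zero, eq_comm, Int.cast_eq_zero] at h2
    rw [if_pos hov, ha l₁ hl₁, h2, Int.cast_zero, Int.cast_eq_zero] at h1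
    exact h0 h1
  · refine ⟨s, hs, fun l hl => ?_⟩
    have hso : SameOrb u (L.pow_p hu) m l₁ := by
      by_contra hn
      rw [if_pos hov, (hu' l₁ hl₁).2 hn, Int.cast_eq_zero] at h1
      exact h0 h1
    exact ⟨fun h => (hu' l hl).1 (sameOrb_trans hso h),
      fun h => (hu' l hl).2 fun h' => h (sameOrb_trans (sameOrb_symm hso) h')⟩

end CfsgLib.DegreeSixteen
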