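import Cfsg.Agent.DegreeSixteen.Spectrum

/-!
# The coefficients of a class function at a cyclic subgroup of prime order

`cc u F l` is the multiplicity of the trivial character minus that of the character `l` in the
restriction of `F` to `⟨u⟩`.
-/

set_option autoImplicit false
set_option linter.style.haveILetI false
set_option linter.unusedSectionVars false

namespace CfsgLib.DegreeSixteen

open Cfsg CfsgLib.Characters CfsgLib.SmallDegreeP
open scoped ComplexConjugate

universe u

variable {p : ℕ} [hp : Fact p.Prime] {G : Type u} [Group G] (u : G)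

/-- The coefficient. -/
noncomputable def cc (F : G → ℂ) (l : ZMod p) : ℂ :=
  (p : ℂ)⁻¹ * ∑ i : ZMod p, F (upow u i) * (1 - ZMod.stdAddChar (-(i * l)))

theorem sum_std (a : ZMod p) :
    ∑ i : ZMod p, (ZMod.stdAddChar (i * a) : ℂ) = if a = 0 then (p : ℂ) else 0 := by
  haveI : NeZero p := ⟨hp.out.ne_zero⟩
  rw [AddChar.sum_mulShift a (ZMod.isPrimitive_stdAddChar p)]
  simp [ZMod.card]

theorem std_add (a b : ZMod p) :
    (ZMod.stdAddChar (a + b) : ℂ) = ZMod.stdAddChar a * ZMod.stdAddChar b :=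
  AddChar.map_add_eq_mul _ _ _

/-- The coefficient of a sum of characters of `⟨u⟩`. -/
theorem cc_of_sum {ι : Type*} (J : Finset ι) (c : ι → ℂ) (f : ι → ZMod p) (F : G → ℂ)
    (h : ∀ i : ZMod p, i ≠ 0 → F (upow u i) = ∑ j ∈ J, c j * ZMod.stdAddChar (i * f j)) (l : ZMod p) :
    cc u F l = ∑ j ∈ J, c j * ((if f j = 0 then 1 else 0) - if f j = l then 1 else 0) := by
  have hp0 : (p : ℂ) ≠ 0 := Nat.cast_ne_zero.2 hp.out.ne_zero
  have h1 : ∀ i : ZMod p, F (upow u i) * (1 - ZMod.stdAddChar (-(i * l))) =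
      ∑ j ∈ J, c j * ((ZMod.stdAddChar (i * f j) : ℂ) - ZMod.stdAddChar (i * (f j - l))) := by
    intro i
    by_cases hi : i = 0
    · subst hi; simp
    · rw [h i hi, Finset.sum_mul]
      refine Finset.sum_congr rfl fun j _ => ?_
      rw [mul_sub i, sub_eq_add_neg (i * f j), std_add]
      ring
  rw [cc, Finset.sum_congr rfl fun i _ => h1 i, Finset.sum_comm, Finset.mul_sum]
  refine Finset.sum_congr rfl fun j _ => ?_
  rw [← Finset.mul_sum, Finset.sum_sub_distrib, sum_std, sum_std]
  simp only [sub_eq_zero]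
  split_ifs <;> field_simp <;> ring

theorem cc_congr {F F' : G → ℂ} (h : ∀ i : ZMod p, i ≠ 0 → F (upow u i) = F' (upow u i))
    (l : ZMod p) : cc u F l = cc u F' l := by
  rw [cc, cc]
  congr 1
  refine Finset.sum_congr rfl fun i _ => ?_
  by_cases hi : i = 0
  · subst hi; simp
  · rw [h i hi]

theorem cc_zero (F : G → ℂ) : cc u F (0 : ZMod p) = 0 := by simp [cc]

theorem cc_add (F F' : G → ℂ) (l : ZMod p) : cc u (F + F') l = cc u F l + cc u F' l := by
  simp only [cc, Pi.add_apply, add_mul, Finset.sum_add_distrib, mul_add]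

theorem cc_smul (a : ℂ) (F : G → ℂ) (l : ZMod p) : cc u (a • F) l = a * cc u F l := by
  simp only [cc, Pi.smul_apply, smul_eq_mul, mul_assoc, ← Finset.mul_sum]
  ring

theorem cc_sum {ι : Type*} (J : Finset ι) (F : ι → G → ℂ) (l : ZMod p) :
    cc u (∑ j ∈ J, F j) l = ∑ j ∈ J, cc u (F j) l := by
  simp only [cc, Finset.sum_apply, Finset.sum_mul, Finset.mul_sum]
  exact Finset.sum_comm

/-- The values at the nontrivial powers. -/
theorem value_cc (F : G → ℂ) {i : ZMod p} (hi : i ≠ 0) :
    F (upow u i) = -∑ l : ZMod p, cc u F l * ZMod.stdAddChar (i * l) := by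
  have hp0 : (p : ℂ) ≠ 0 := Nat.cast_ne_zero.2 hp.out.ne_zero
  have h1 : ∀ j l : ZMod p, F (upow u j) * (1 - ZMod.stdAddChar (-(j * l))) *
      ZMod.stdAddChar (i * l) =
        F (upow u j) * ((ZMod.stdAddChar (l * i) : ℂ) - ZMod.stdAddChar (l * (i - j))) := by
    intro j l
    rw [show l * (i - j) = i * l + -(j * l) by ring, std_add, mul_comm l i]
    ring
  simp only [cc, mul_assoc, ← Finset.mul_sum, Finset.sum_mul]
  simp only [← mul_assoc, h1]
  rw [Finset.sum_comm]
  simp only [← Finset.mul_sum, Finset.sum_sub_distrib, sum_std, if_neg hi]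
  rw [Finset.sum_eq_single i (fun j _ hj => by
    rw [if_neg (sub_ne_zero.2 (Ne.symm hj))]; ring) (by simp), sub_self, if_pos rfl]
  field_simp
  ring

/-- The sum of the coefficients. -/
theorem sum_cc (F : G → ℂ) :
    ∑ l : ZMod p, cc u F l = ∑ i ∈ Finset.univ.erase (0 : ZMod p), F (upow u i) := by
  have hp0 : (p : ℂ) ≠ 0 := Nat.cast_ne_zero.2 hp.out.ne_zero
  simp only [cc, ← Finset.mul_sum]
  rw [Finset.sum_comm]
  have h1 : ∀ i : ZMod p, ∑ l : ZMod p, F (upow u i) * (1 - ZMod.stdAddChar (-(i * l))) =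
      if i = 0 then 0 else (p : ℂ) * F (upow u i) := by
    intro i
    rw [← Finset.mul_sum, Finset.sum_sub_distrib, Finset.sum_const, Finset.card_univ, ZMod.card,
      Finset.sum_congr rfl (g := fun l => (ZMod.stdAddChar (l * -i) : ℂ)) fun l _ => by
        rw [mul_neg, mul_comm], sum_std]
    simp only [neg_eq_zero, nsmul_one]
    split_ifs <;> ring
  simp only [h1]
  rw [Finset.sum_ite, Finset.sum_const_zero, zero_add, Finset.filter_ne', Finset.mul_sum]
  exact Finset.sum_congr rfl fun i _ => by field_simp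

theorem upow_pow (hup : u ^ p = 1) (j : ZMod p) (n : ℕ) :
    upow u j ^ n = upow u (j * (n : ZMod p)) := by
  induction n with
  | zero => simp [upow_zero]
  | succ n ih => rw [pow_succ, ih, ← upow_add u hup, Nat.cast_succ, mul_add, mul_one]

end CfsgLib.DegreeSixteen
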