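import Cfsg.Agent.DegreeSixteen.Core.Sums
import Cfsg.Agent.BrauerSuzuki.Theorem

/-!
# Common tools for the two exceptional primes

The square of the modulus of the representation, pairs of involutions modulo the centre, and the
contradiction from a character that is too negative at all involutions modulo the centre.
-/

set_option autoImplicit false
set_option linter.style.haveILetI false
set_option linter.unusedSectionVars false

namespace CfsgLib.DegreeSixteen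

open Cfsg CfsgLib.Characters CfsgLib.SmallDegreeP CfsgLib.DefectOne
open scoped ComplexConjugate

universe u

variable {p : ℕ} [hp : Fact p.Prime]

section Rows

variable {G : Type u} [Group G] [Fintype G] {L : Local p G} {u : G}
  (hu : u ∈ (L.P : Subgroup G)) (hu1 : u ≠ 1) (hKc : L.K = Subgroup.center G)
  (ht : 2 * Nat.card (auts u (L.pow_p hu)) ≤ p - 1) {φ : L.K →* ℂˣ}

include hu hu1 hKc ht

/-- All unit rows have the values of one of them at the regular elements. -/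
theorem unit_regular {χ₀ : IrrCharacter G} (hχ₀ : Over L φ (χ₀ : G → ℂ)) {l₀ : ZMod p} {s : ℤ}
    (hl₀ : l₀ ≠ 0) (hs : s = 1 ∨ s = -1) (h₀ : Unit1 u (L.pow_p hu) (χ₀ : G → ℂ) l₀ s)
    {χ : IrrCharacter G} (hχ : χ ∈ unitSet hu φ) {g : G} (hg : ¬ p ∣ orderOf g) :
    (χ : G → ℂ) g = (χ₀ : G → ℂ) g := by
  obtain ⟨hov, l₁, s', hl₁, hs', h'⟩ := (mem_unitSet hu).1 hχ
  exact (regular_unit1 hu hu1 hKc ht hχ₀ hov hl₀ hl₁ hs hs' h₀ h').2.2 g hg

/-- The unit rows have one degree. -/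
theorem unit_one {χ₀ : IrrCharacter G} (hχ₀ : Over L φ (χ₀ : G → ℂ)) {l₀ : ZMod p} {s : ℤ}
    (hl₀ : l₀ ≠ 0) (hs : s = 1 ∨ s = -1) (h₀ : Unit1 u (L.pow_p hu) (χ₀ : G → ℂ) l₀ s)
    {χ : IrrCharacter G} (hχ : χ ∈ unitSet hu φ) : (χ : G → ℂ) 1 = (χ₀ : G → ℂ) 1 :=
  unit_regular hu hu1 hKc ht hχ₀ hl₀ hs h₀ hχ
    (by rw [orderOf_one, Nat.dvd_one]; exact hp.out.ne_one)

/-- The weighted column sum at a regular `x`. -/
theorem sum_rows_regular {χ₀ : IrrCharacter G} (hχ₀ : Over L φ (χ₀ : G → ℂ)) {l₀ : ZMod p} {s : ℤ}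
    (hl₀ : l₀ ≠ 0) (hs : s = 1 ∨ s = -1) (h₀ : Unit1 u (L.pow_p hu) (χ₀ : G → ℂ) l₀ s)
    {x : G} (hx : ¬ p ∣ orderOf x) (f : IrrCharacter G → ℂ) :
    ∑ χ ∈ overSet φ, (χ : G → ℂ) u * ((χ : G → ℂ) x / (χ : G → ℂ) 1 * f χ) =
      ∑ χ ∈ flatSet (L := L) u φ, (χ : G → ℂ) u * ((χ : G → ℂ) x / (χ : G → ℂ) 1 * f χ) +
        (χ₀ : G → ℂ) x / (χ₀ : G → ℂ) 1 * ∑ χ ∈ unitSet hu φ, (χ : G → ℂ) u * f χ := by
  rw [sum_rows hu hu1 hKc ht, Finset.mul_sum]
  congr 1
  refine Finset.sum_congr rfl fun χ hχ => ?_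
  rw [unit_regular hu hu1 hKc ht hχ₀ hl₀ hs h₀ hχ hx, unit_one hu hu1 hKc ht hχ₀ hl₀ hs h₀ hχ]
  ring

/-- The pairs `x, x` over the trivial character. -/
theorem tsum_sq_eq {χ₀ : IrrCharacter G} (hχ₀ : Over L φ (χ₀ : G → ℂ)) {l₀ : ZMod p} {s : ℤ}
    (hl₀ : l₀ ≠ 0) (hs : s = 1 ∨ s = -1) (h₀ : Unit1 u (L.pow_p hu) (χ₀ : G → ℂ) l₀ s)
    {x : G} (hx : ¬ p ∣ orderOf x) :
    tsum x x u φ = ∑ χ ∈ flatSet (L := L) u φ, (χ : G → ℂ) u * ((χ : G → ℂ) x ^ 2 / (χ : G → ℂ) 1) +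
      (s : ℂ) * ((χ₀ : G → ℂ) x ^ 2 / (χ₀ : G → ℂ) 1) := by
  rw [tsum, sum_rows_conj hu hu1 hKc ht]
  congr 1
  · exact Finset.sum_congr rfl fun χ _ => by ring
  · rw [← Complex.conj_conj (s : ℂ), map_intCast, ← unit_sum hu hu1 hKc ht hχ₀ hl₀ hs h₀, map_sum,
      Finset.sum_mul]
    refine Finset.sum_congr rfl fun χ hχ => ?_
    rw [unit_regular hu hu1 hKc ht hχ₀ hl₀ hs h₀ hχ hx, unit_one hu hu1 hKc ht hχ₀ hl₀ hs h₀ hχ]
    ring

end Rows

variable {G : Type} [Group G] [Fintype G]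
variable {ρ : Representation ℂ G (Fin 16 → ℂ)} [ρ.IsIrreducible] {L : Local p G} {u : G}
  (H : Lin16 ρ L u)

include H

theorem Lin16.p_ne_two : p ≠ 2 := by have := H.p19; omega

theorem Lin16.regular_invol {x : G} (hx : x * x ∈ L.K) : ¬ p ∣ orderOf x :=
  not_dvd_orderOf_sq H.p_ne_two hx

/-- No product of two involutions modulo the centre is `u` modulo the centre. -/
theorem Lin16.tsum_sq_zero (hodd : Odd (Nat.card (auts u H.pow))) {x : G} (hx : x * x ∈ L.K) :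
    tsum (L := L) x x u 1 = 0 := by
  obtain ⟨r, -, hr, -, hz, -⟩ := tsum_bound H.K_center x x u
  rw [hr, hz, Complex.ofReal_zero]
  intro a b k hk
  have hc : ∀ c : G, (c * x * c⁻¹) * (c * x * c⁻¹) ∈ Subgroup.center G := fun c => by
    rw [show (c * x * c⁻¹) * (c * x * c⁻¹) = c * (x * x) * c⁻¹ by group]
    exact (inferInstance : (Subgroup.center G).Normal).conj_mem _ (H.K_center ▸ hx) c
  set A := a * x * a⁻¹
  set B := b * x * b⁻¹
  have hkc : (k : G) ∈ Subgroup.center G := H.K_center ▸ k.2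
  have h1 : A * (A * B) * A⁻¹ = B * A := by
    calc A * (A * B) * A⁻¹ = (A * A) * (B * A⁻¹) := by group
      _ = (B * A⁻¹) * (A * A) := (Subgroup.mem_center_iff.1 (hc a) _).symm
      _ = B * A := by group
  have h2 : B * A = (A * B)⁻¹ * ((A * A) * (B * B)) := by
    calc B * A = (A * B)⁻¹ * (A * (B * B) * A) := by group
      _ = (A * B)⁻¹ * ((A * A) * (B * B)) := by
        have hz' : A * (B * B) = B * B * A := Subgroup.mem_center_iff.1 (hc b) A
        rw [mul_assoc A (B * B) A, ← hz', ← mul_assoc A A (B * B)]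
  have h3 : A * u * A⁻¹ * k = u⁻¹ * ((k : G)⁻¹ * ((A * A) * (B * B))) := by
    calc A * u * A⁻¹ * k = A * (u * k) * A⁻¹ := by
          rw [mul_assoc (A * u), Subgroup.mem_center_iff.1 hkc A⁻¹, ← mul_assoc, mul_assoc A]
      _ = (u * k)⁻¹ * ((A * A) * (B * B)) := by rw [← hk, h1, h2]
      _ = u⁻¹ * ((k : G)⁻¹ * ((A * A) * (B * B))) := by
        rw [mul_inv_rev, ← mul_assoc u⁻¹,
          Subgroup.mem_center_iff.1 (inv_mem hkc : (k : G)⁻¹ ∈ Subgroup.center G) u⁻¹]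
  have hw : (k : G)⁻¹ * ((A * A) * (B * B)) * (k : G)⁻¹ ∈ L.K := by
    exact H.K_center.ge (mul_mem (mul_mem (inv_mem hkc) (mul_mem (hc a) (hc b))) (inv_mem hkc))
  have hconj : IsConj u (u⁻¹ * ((⟨_, hw⟩ : L.K) : G)) := isConj_iff.2 ⟨A, by
    show A * u * A⁻¹ = u⁻¹ * ((k : G)⁻¹ * ((A * A) * (B * B)) * (k : G)⁻¹)
    rw [← mul_assoc u⁻¹, ← h3, mul_inv_cancel_right]⟩
  have hone := eq_one_of_isConj H.mem H.ne (inv_mem H.mem) hconj
  rw [hone, OneMemClass.coe_one, mul_one, show u⁻¹ = upow u (-1 : ZMod p) by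
    rw [upow_neg H.pow, upow_one]] at hconj
  exact not_isConj_inv H.mem H.ne H.p_ne_two hodd hconj

/-- The quotient by the centre has a four-group. -/
theorem Lin16.exists_four :
    ∃ x y : G, x ∉ L.K ∧ x * x ∈ L.K ∧ y ∉ L.K ∧ y * y ∈ L.K ∧
      x * y ∉ L.K ∧ (x * y) * (x * y) ∈ L.K ∧ ∃ k : L.K, x * y = y * x * k := by
  classical
  haveI : L.K.Normal := H.K_center ▸ inferInstance
  by_contra hcon
  have hsq : ∀ g : G, (QuotientGroup.mk' L.K g) ^ 2 = 1 ↔ g * g ∈ L.K := fun g => by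
    rw [pow_two, ← map_mul, QuotientGroup.mk'_apply, QuotientGroup.eq_one_iff]
  have hne : ∀ g : G, QuotientGroup.mk' L.K g ≠ 1 ↔ g ∉ L.K := fun g => by
    rw [ne_eq, QuotientGroup.mk'_apply, QuotientGroup.eq_one_iff]
  have hU : BrauerSuzuki.NoFour (G ⧸ L.K) := by
    intro s t hs hs1 ht ht1 hst
    by_contra hne'
    obtain ⟨x, rfl⟩ := QuotientGroup.mk'_surjective L.K s
    obtain ⟨y, rfl⟩ := QuotientGroup.mk'_surjective L.K t
    refine hcon ⟨x, y, (hne x).1 hs1, (hsq x).1 hs, (hne y).1 ht1, (hsq y).1 ht,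
      (hne _).1 fun h => hne' ?_, (hsq _).1 ?_, ⟨(y * x)⁻¹ * (x * y), ?_⟩, ?_⟩
    · rw [map_mul, mul_eq_one_iff_eq_inv] at h
      rw [h, inv_eq_iff_mul_eq_one, ← pow_two]
      exact ht
    · rw [map_mul, hst.mul_pow, hs, ht, one_mul]
    · rw [← QuotientGroup.eq_one_iff, ← QuotientGroup.mk'_apply, map_mul, map_inv, map_mul, map_mul,
        hst.eq, inv_mul_cancel]
    · group
  obtain ⟨x, hxK, hx⟩ := H.exists_involution
  obtain ⟨N, hN, hodd, hcomm⟩ := BrauerSuzuki.exists_normal_odd hU ((hsq x).2 hx) ((hne x).2 hxK)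
  haveI := hN
  set M := N.comap (QuotientGroup.mk' L.K) with hM
  haveI : M.Normal := Subgroup.Normal.comap hN _
  have hMK : M ≤ L.K := H.normal_le_K M fun hd => by
    obtain ⟨w, hw⟩ := exists_prime_orderOf_dvd_card' (G := M) p hd
    have hwo : orderOf (w : G) = p := by rw [Subgroup.orderOf_coe]; exact hw
    have htop : M = ⊤ := H.gen.eq_top fun y hy => by
      by_cases h1 : y = 1
      · rw [h1]; exact one_mem _
      · exact SmallDegreeP.mem_normal_of_orderOf H.sq w.2 hwo (orderOf_of_pelem H.sq hy h1)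
    have hNtop : N = ⊤ := Subgroup.comap_injective (QuotientGroup.mk'_surjective L.K)
      (by rw [Subgroup.comap_top, ← hM, htop])
    rw [hNtop, Subgroup.card_top, ← Subgroup.index_eq_card] at hodd
    exact Nat.not_even_iff_odd.2 hodd
      ((even_iff_two_dvd.2 (by norm_num : 2 ∣ 16)).trans_dvd H.sixteen_dvd)
  have hcu : x * u * x⁻¹ * u⁻¹ ∈ L.K := hMK (Subgroup.mem_comap.2 (by
    rw [map_mul, map_mul, map_mul, map_inv, map_inv]; exact hcomm _))
  have hcc : (x * u * x⁻¹ * u⁻¹) ∈ Subgroup.center G := H.K_center ▸ hcu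
  have hconj : IsConj u (u * ((⟨_, hcu⟩ : L.K) : G)) :=
    isConj_iff.2 ⟨x, by
      show x * u * x⁻¹ = u * (x * u * x⁻¹ * u⁻¹)
      rw [Subgroup.mem_center_iff.1 hcc u]; group⟩
  have hone := eq_one_of_isConj H.mem H.ne H.mem hconj
  have hcomm' : x * u * x⁻¹ * u⁻¹ = 1 := congrArg Subtype.val hone
  rw [mul_inv_eq_one, mul_inv_eq_iff_eq_mul] at hcomm'
  have hxc : x ∈ Subgroup.centralizer ((L.P : Subgroup G) : Set G) := by
    rw [← L.centralizer_singleton H.mem H.ne]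
    exact Subgroup.mem_centralizer_singleton_iff.2 hcomm'
  exact hxK (L.mem_K x hxc (H.regular_invol hx))

/-- A character trivial on the centre cannot be too negative at all the involutions. -/
theorem Lin16.false_of_negative {θ : G → ℂ} (hθ : Cfsg.IsCharacter G θ) (hθo : Over L 1 θ)
    {R a : ℤ} (h1 : θ 1 = R) (hR : R < 3 * a)
    (hneg : ∀ x : G, x ∉ L.K → x * x ∈ L.K → ∃ w : ℤ, θ x = w ∧ w ≤ -a) : False := by
  obtain ⟨x, y, hxK, hx, hyK, hy, hxyK, hxy, k, hk⟩ := H.exists_four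
  obtain ⟨n, σ, hσ⟩ := hθ
  have htriv : ∀ g ∈ L.K, σ g = 1 := fun g hg => (char_eq_finrank_iff σ g).1 (by
    have h := hθo 1 ⟨g, hg⟩
    rw [one_mul, MonoidHom.one_apply, Units.val_one, one_mul, ← hσ, Representation.char_one] at h
    exact h)
  have hX : σ x * σ x = 1 := by rw [← map_mul]; exact htriv _ hx
  have hY : σ y * σ y = 1 := by rw [← map_mul]; exact htriv _ hy
  have hXY : σ x * σ y = σ y * σ x := by
    rw [← map_mul, ← map_mul, hk, map_mul σ (y * x), htriv _ k.2, mul_one]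
  set E : Module.End ℂ (Fin n → ℂ) := (4 : ℂ)⁻¹ • ((1 + σ x) * (1 + σ y)) with hE
  have hAA : (1 + σ x) * (1 + σ x) = (2 : ℂ) • (1 + σ x) := by
    rw [add_mul, one_mul, mul_add, mul_one, hX, two_smul]; abel
  have hBB : (1 + σ y) * (1 + σ y) = (2 : ℂ) • (1 + σ y) := by
    rw [add_mul, one_mul, mul_add, mul_one, hY, two_smul]; abel
  have hBA : (1 + σ y) * (1 + σ x) = (1 + σ x) * (1 + σ y) := by
    simp only [add_mul, mul_add, one_mul, mul_one, hXY]; abel
  have hidem : E * E = E := by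
    rw [hE, smul_mul_assoc, mul_smul_comm, mul_assoc (1 + σ x), ← mul_assoc (1 + σ y), hBA,
      mul_assoc (1 + σ x) (1 + σ y), hBB, ← mul_assoc, hAA, smul_mul_assoc, mul_smul_comm,
      smul_smul, smul_smul, smul_smul]
    norm_num
  have hproj : LinearMap.IsProj (LinearMap.range E) E := ⟨fun v => LinearMap.mem_range_self E v, by
    rintro _ ⟨v, rfl⟩; rw [← Module.End.mul_apply, hidem]⟩
  have htr := hproj.trace
  generalize Module.finrank ℂ (LinearMap.range E) = r at htr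
  rw [hE, map_smul, add_mul, one_mul, mul_add, mul_one, ← map_mul σ x y, map_add, map_add, map_add,
    smul_eq_mul, LinearMap.trace_one] at htr
  change (4 : ℂ)⁻¹ * (_ + σ.character y + (σ.character x + σ.character (x * y))) = _ at htr
  obtain ⟨a1, e1, l1⟩ := hneg x hxK hx
  obtain ⟨a2, e2, l2⟩ := hneg y hyK hy
  obtain ⟨a3, e3, l3⟩ := hneg (x * y) hxyK hxy
  rw [hσ, e1, e2, e3, ← Representation.char_one σ, hσ, h1] at htr
  have h : R + a2 + (a1 + a3) = 4 * (r : ℤ) := by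
    have h' : ((R + a2 + (a1 + a3) : ℤ) : ℂ) = ((4 * (r : ℤ) : ℤ) : ℂ) := by
      push_cast
      linear_combination (4 : ℂ) * htr
    exact_mod_cast h'
  omega

/-- The square of the modulus of the character. -/
theorem Lin16.normSq_char :
    Cfsg.IsCharacter G (fun g => ρ.character g * conj (ρ.character g)) ∧
      Over L 1 (fun g => ρ.character g * conj (ρ.character g)) := by
  refine ⟨isCharacter_mul (isCharacter_character ρ) (isCharacter_conj (isCharacter_character ρ)),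
    fun g k => ?_⟩
  obtain ⟨φ, hφ, -, -⟩ := H.exists_phi
  have h1 : ‖(φ k : ℂ)‖ = 1 := Complex.norm_eq_one_of_pow_eq_one (by
      rw [← Units.val_pow_eq_pow_val, ← map_pow, pow_card_eq_one', map_one, Units.val_one])
      Nat.card_pos.ne'
  have h2 : (φ k : ℂ) * conj (φ k : ℂ) = 1 := by rw [Complex.mul_conj', h1]; simp
  simp only [MonoidHom.one_apply, Units.val_one, one_mul, hφ g k, map_mul]
  linear_combination (ρ.character g * conj (ρ.character g)) * h2

/-- The value of the character at an involution modulo the centre. -/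
theorem Lin16.norm_invol {x : G} (hx : x * x ∈ L.K) :
    ∃ t : ℕ, t ≤ 8 ∧ ‖ρ.character x‖ = 2 * (t : ℝ) ∧
      ρ.character x * conj (ρ.character x) = (((2 * (t : ℤ)) ^ 2 : ℤ) : ℂ) := by
  obtain ⟨φ, -, hs, -⟩ := H.exists_phi
  obtain ⟨c, hc⟩ := IsAlgClosed.exists_pow_nat_eq (φ ⟨x * x, hx⟩ : ℂ) two_pos
  have hφ1 : ‖(φ ⟨x * x, hx⟩ : ℂ)‖ = 1 := Complex.norm_eq_one_of_pow_eq_one (by
      rw [← Units.val_pow_eq_pow_val, ← map_pow, pow_card_eq_one', map_one, Units.val_one])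
      Nat.card_pos.ne'
  have hc1 : ‖c‖ = 1 := by
    have h : ‖c‖ ^ 2 = 1 := by rw [← norm_pow, hc, hφ1]
    nlinarith [norm_nonneg c]
  have hc0 : c ≠ 0 := fun h => by rw [h, norm_zero] at hc1; norm_num at hc1
  obtain ⟨m, hm, htr, -⟩ := trace_det_involution (c⁻¹ • ρ x) (by
    have h := hs ⟨x * x, hx⟩
    rw [map_mul, ← hc] at h
    rw [smul_mul_assoc, mul_smul_comm, h, smul_smul, smul_smul,
      show c⁻¹ * c⁻¹ * c ^ 2 = 1 by field_simp, one_smul]
    rfl)
  rw [map_smul, smul_eq_mul, inv_mul_eq_iff_eq_mul₀ hc0] at htr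
  change ρ.character x = _ at htr
  refine ⟨((8 : ℤ) - m).natAbs, by omega, ?_, ?_⟩
  · rw [htr, norm_mul, hc1, one_mul, Complex.norm_intCast, Nat.cast_natAbs,
      show (((16 : ℕ) : ℤ) - 2 * (m : ℤ)) = 2 * (8 - (m : ℤ)) by omega]
    push_cast
    rw [abs_mul, abs_two]
  · have h2 : c * conj c = 1 := by rw [Complex.mul_conj', hc1]; simp
    rw [htr, map_mul, map_intCast, mul_mul_mul_comm, h2, one_mul, ← Int.cast_mul]
    congr 1
    rw [mul_pow, Int.natAbs_sq]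
    push_cast
    ring

end CfsgLib.DegreeSixteen
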