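import Cfsg.Agent.DegreeSixteen.Core.Pairs

/-!
# The decomposition of a character over `φ`
-/

set_option autoImplicit false
set_option linter.style.haveILetI false
set_option linter.unusedSectionVars false

namespace CfsgLib.DegreeSixteen

open Cfsg CfsgLib.Characters CfsgLib.SmallDegreeP CfsgLib.DefectOne
open scoped ComplexConjugate

universe u

variable {p : ℕ} [hp : Fact p.Prime] {G : Type u} [Group G] [Fintype G] {L : Local p G} {u : G}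
  (hu : u ∈ (L.P : Subgroup G)) (hu1 : u ≠ 1) (hKc : L.K = Subgroup.center G)
  (ht : 2 * Nat.card (auts u (L.pow_p hu)) ≤ p - 1) {φ : L.K →* ℂˣ}

open Classical in
/-- The unit rows over `φ`. -/
noncomputable def unitSet (hu : u ∈ (L.P : Subgroup G)) (φ : L.K →* ℂˣ) : Finset (IrrCharacter G) :=
  Finset.univ.filter fun χ => Over L φ (χ : G → ℂ) ∧ ∃ (l₁ : ZMod p) (s : ℤ), l₁ ≠ 0 ∧
    (s = 1 ∨ s = -1) ∧ Unit1 u (L.pow_p hu) (χ : G → ℂ) l₁ s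

theorem mem_unitSet {χ : IrrCharacter G} : χ ∈ unitSet hu φ ↔
    Over L φ (χ : G → ℂ) ∧ ∃ (l₁ : ZMod p) (s : ℤ), l₁ ≠ 0 ∧ (s = 1 ∨ s = -1) ∧
      Unit1 u (L.pow_p hu) (χ : G → ℂ) l₁ s := by
  simp [unitSet]

include hu hu1 hKc ht

theorem disjoint_flat_unit : Disjoint (flatSet (L := L) u φ) (unitSet hu φ) := by
  rw [Finset.disjoint_left]
  intro χ h h'
  obtain ⟨-, a, -, ha⟩ := mem_flatSet.1 h
  obtain ⟨-, l₁, s, hl, hs, h1⟩ := (mem_unitSet hu).1 h'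
  exact not_flat_of_unit1 hu hu1 ht hl hs h1 ha

open Classical in
/-- The decomposition. -/
theorem decomp {χ₀ : IrrCharacter G} (hχ₀ : Over L φ (χ₀ : G → ℂ)) {l₀ : ZMod p} {s : ℤ}
    (hl₀ : l₀ ≠ 0) (hs : s = 1 ∨ s = -1) (h₀ : Unit1 u (L.pow_p hu) (χ₀ : G → ℂ) l₀ s)
    {F : G → ℂ} (hF : Cfsg.IsCharacter G F) (hFo : Over L φ F) :
    ∃ (m : IrrCharacter G → ℕ) (v : ZMod p → ℕ) (V R : ℕ) (θ : G → ℂ),
      (∀ χ : IrrCharacter G, (m χ : ℂ) = Cfsg.classInner F (χ : G → ℂ)) ∧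
      (∀ l : ZMod p, l ≠ 0 →
        cc u F l = ∑ χ ∈ flatSet (L := L) u φ, (m χ : ℂ) * (χ : G → ℂ) u + (s : ℂ) * v l) ∧
      ∑ l ∈ Finset.univ.erase (0 : ZMod p), v l = Nat.card (auts u (L.pow_p hu)) * V ∧
      (∀ χ ∈ unitSet hu φ, m χ ≤ V) ∧ V = ∑ χ ∈ unitSet hu φ, m χ ∧
      Cfsg.IsCharacter G θ ∧ Over L φ θ ∧ θ 1 = R ∧
      (∀ g : G, ¬ p ∣ orderOf g → F g = ∑ χ ∈ flatSet (L := L) u φ, (m χ : ℂ) * (χ : G → ℂ) g +
        (V : ℂ) * (χ₀ : G → ℂ) g + θ g) ∧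
      F 1 = ((∑ χ ∈ flatSet (L := L) u φ, m χ * Cfsg.charDegree (χ : G → ℂ) +
        V * Cfsg.charDegree (χ₀ : G → ℂ) + R : ℕ) : ℂ) := by
  obtain ⟨m, hm⟩ := exists_nat_coeff hF
  have hmi : ∀ χ : IrrCharacter G, Cfsg.classInner F (χ : G → ℂ) = (m χ : ℂ) := fun χ => by
    rw [hm, classInner_irr_coeff]
  have hmo : ∀ χ : IrrCharacter G, m χ ≠ 0 → Over L φ (χ : G → ℂ) := fun χ h =>
    over_of_constituent hKc hFo (by rw [hmi]; exact_mod_cast h)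
  set T := flatSet (L := L) u φ with hT
  set U := unitSet hu φ with hU
  set Z := (Finset.univ \ (T ∪ U)).filter fun χ => m χ ≠ 0 with hZ
  have hdisj := disjoint_flat_unit hu hu1 hKc ht (φ := φ)
  have hZ0 : ∀ χ ∈ Z, Over L φ (χ : G → ℂ) ∧ ∀ l : ZMod p, l ≠ 0 → cc u (χ : G → ℂ) l = 0 := by
    intro χ hχ
    obtain ⟨h1, h2⟩ := Finset.mem_filter.1 hχ
    have h3 := (Finset.mem_sdiff.1 h1).2
    rw [Finset.mem_union, not_or] at h3
    have hov := hmo χ h2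
    refine ⟨hov, fun l hl => ?_⟩
    rcases row hu hu1 hKc hov with ⟨a, -, ha⟩ | ⟨l₁, hl₁, s', hs', h'⟩
    · by_cases ha0 : a = 0
      · rw [ha l hl, ha0, Int.cast_zero]
      · exact absurd (mem_flatSet.2 ⟨hov, a, ha0, ha⟩) h3.1
    · exact absurd ((mem_unitSet hu).2 ⟨hov, l₁, s', hl₁, hs', h'⟩) h3.2
  have hsplit : ∀ f : IrrCharacter G → ℂ, ∑ χ, (m χ : ℂ) * f χ =
      ∑ χ ∈ T, (m χ : ℂ) * f χ + ∑ χ ∈ U, (m χ : ℂ) * f χ + ∑ χ ∈ Z, (m χ : ℂ) * f χ := by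
    intro f
    rw [← Finset.sum_union hdisj, ← Finset.sum_sdiff (Finset.subset_univ (T ∪ U)), add_comm]
    congr 1
    exact (Finset.sum_subset (Finset.filter_subset _ _) fun χ h1 h2 => by
      rw [show m χ = 0 by
        by_contra h
        exact h2 (Finset.mem_filter.2 ⟨h1, h⟩), Nat.cast_zero, zero_mul]).symm
  have hcc : ∀ l : ZMod p, cc u F l = ∑ χ, (m χ : ℂ) * cc u (χ : G → ℂ) l := fun l => by
    rw [hm, cc_sum]
    exact Finset.sum_congr rfl fun χ _ => cc_smul u _ _ l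
  have hUs : ∀ χ ∈ U, Cfsg.charDegree (χ : G → ℂ) = Cfsg.charDegree (χ₀ : G → ℂ) ∧
      (∀ g : G, ¬ p ∣ orderOf g → (χ : G → ℂ) g = (χ₀ : G → ℂ) g) ∧
      ∃ l₁ : ZMod p, l₁ ≠ 0 ∧ ∀ l : ZMod p, l ≠ 0 →
        cc u (χ : G → ℂ) l = (s : ℂ) * if l ∈ orbF u (L.pow_p hu) l₁ then 1 else 0 := by
    intro χ hχ
    obtain ⟨hov, l₁, s', hl₁, hs', h'⟩ := (mem_unitSet hu).1 hχ
    obtain ⟨he, hd, hg⟩ := regular_unit1 hu hu1 hKc ht hχ₀ hov hl₀ hl₁ hs hs' h₀ h'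
    refine ⟨hd, hg, l₁, hl₁, fun l hl => ?_⟩
    split_ifs with h
    · rw [(h' l hl).1 (mem_orbF.1 h), he, mul_one]
    · rw [(h' l hl).2 fun e => h (mem_orbF.2 e), mul_zero]
  choose hUd hUg orb horb hUc using hUs
  let v : ZMod p → ℕ := fun l =>
    ∑ χ ∈ U.attach, m χ.1 * if l ∈ orbF u (L.pow_p hu) (orb χ.1 χ.2) then 1 else 0
  let θ : G → ℂ := ∑ χ ∈ Z, (m χ : ℂ) • (χ : G → ℂ)
  refine ⟨m, v, ∑ χ ∈ U, m χ, ∑ χ ∈ Z, m χ * Cfsg.charDegree (χ : G → ℂ), θ,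
    fun χ => (hmi χ).symm, fun l hl => ?_, ?_, fun χ hχ => Finset.single_le_sum
      (fun χ _ => Nat.zero_le (m χ)) hχ, rfl,
    isCharacter_sum _ _ fun χ _ => isCharacter_natCast_smul (isCharacter_of_isIrr χ.2) _, ?_, ?_,
    fun g hg => ?_, ?_⟩
  · rw [hcc, hsplit, Finset.sum_eq_zero (s := Z) (fun χ hχ => by rw [(hZ0 χ hχ).2 l hl, mul_zero]),
      add_zero]
    congr 1
    · refine Finset.sum_congr rfl fun χ hχ => ?_
      obtain ⟨-, a, -, ha⟩ := mem_flatSet.1 hχ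
      rw [ha l hl, value_flat_one ha]
    · rw [← Finset.sum_attach U, Nat.cast_sum, Finset.mul_sum]
      refine Finset.sum_congr rfl fun χ _ => ?_
      rw [hUc χ.1 χ.2 l hl]
      push_cast
      ring
  · rw [Finset.sum_comm, Finset.mul_sum, ← Finset.sum_attach U (fun χ => Nat.card _ * m χ)]
    refine Finset.sum_congr rfl fun χ _ => ?_
    rw [← Finset.mul_sum, Finset.sum_ite_mem, Finset.inter_eq_right.2 fun l hl =>
      Finset.mem_erase.2 ⟨fun e => zero_notMem_orbF (horb χ.1 χ.2) (e ▸ hl), Finset.mem_univ _⟩,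
      Finset.sum_const, card_orbF (horb χ.1 χ.2), smul_eq_mul, mul_one, mul_comm]
  · intro g k
    simp only [θ, Finset.sum_apply, Pi.smul_apply, smul_eq_mul, Finset.mul_sum]
    exact Finset.sum_congr rfl fun χ hχ => by rw [(hZ0 χ hχ).1]; ring
  · simp only [θ, Finset.sum_apply, Pi.smul_apply, smul_eq_mul, ← Blocks.charDegree_cast]
    push_cast
    rfl
  · have h : F g = ∑ χ, (m χ : ℂ) * (χ : G → ℂ) g := by rw [hm]; simp
    rw [h, hsplit, Finset.sum_congr (s₁ := U) rfl fun χ hχ => by rw [hUg χ hχ g hg],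
      ← Finset.sum_mul, Nat.cast_sum]
    simp only [θ, Finset.sum_apply, Pi.smul_apply, smul_eq_mul]
  · have h : F 1 = ∑ χ, (m χ : ℂ) * (χ : G → ℂ) 1 := by rw [hm]; simp
    rw [h, hsplit, Finset.sum_congr (s₁ := U) rfl fun χ hχ => by
      rw [← Blocks.charDegree_cast χ, hUd χ hχ], ← Finset.sum_mul]
    simp only [← Blocks.charDegree_cast]
    push_cast
    rfl

end CfsgLib.DegreeSixteen
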