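import Cfsg.Agent.DegreeSixteen.Core.Setup

/-!
# Facts for both cases

Involutions modulo the centre, sums over the rows, and the degrees of the rows over the trivial
character.
-/

set_option autoImplicit false
set_option linter.style.haveILetI false
set_option linter.unusedSectionVars false

namespace CfsgLib.DegreeSixteen

open Cfsg CfsgLib.Characters CfsgLib.SmallDegreeP CfsgLib.DefectOne
open scoped ComplexConjugate

universe u

/-- The trace and the determinant of an involution. -/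
theorem trace_det_involution {d : ℕ} (J : Module.End ℂ (Fin d → ℂ)) (hJ : J * J = 1) :
    ∃ m : ℕ, m ≤ d ∧ LinearMap.trace ℂ _ J = (((d : ℤ) - 2 * m : ℤ) : ℂ) ∧
      LinearMap.det J = (-1) ^ m := by
  have hA : ∀ v, J (J v) = v := fun v => LinearMap.congr_fun hJ v
  set P := LinearMap.ker (J - LinearMap.id)
  set M := LinearMap.ker (J + LinearMap.id)
  have hP : ∀ {v}, v ∈ P ↔ J v = v := fun {v} => by simp [P, sub_eq_zero]
  have hM : ∀ {v}, v ∈ M ↔ J v = -v := fun {v} => by simp [M, add_eq_zero_iff_eq_neg]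
  have hc : IsCompl P M := by
    refine ⟨disjoint_iff.2 (eq_bot_iff.2 fun v hv => ?_), codisjoint_iff.2 (eq_top_iff.2 fun v _ => ?_)⟩
    · have h : v = -v := (hP.1 hv.1).symm.trans (hM.1 hv.2)
      rw [eq_neg_iff_add_eq_zero, ← two_smul ℂ v, smul_eq_zero] at h
      exact (Submodule.mem_bot ℂ).2 (h.resolve_left two_ne_zero)
    · refine Submodule.mem_sup.2 ⟨(2 : ℂ)⁻¹ • (v + J v), hP.2 ?_, (2 : ℂ)⁻¹ • (v - J v), hM.2 ?_, ?_⟩
      · rw [map_smul, map_add, hA, add_comm]
      · rw [map_smul, map_sub, hA, ← smul_neg, neg_sub]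
      · match_scalars <;> field_simp <;> ring
  set m := Module.finrank ℂ M
  refine ⟨m, (M.finrank_le).trans_eq (Module.finrank_fin_fun ℂ), ?_, ?_⟩
  · set E : Module.End ℂ (Fin d → ℂ) := (2 : ℂ)⁻¹ • (1 - J)
    have hE : LinearMap.IsProj M E := by
      refine ⟨fun v => hM.2 ?_, fun v hv => ?_⟩
      · simp only [E, LinearMap.smul_apply, LinearMap.sub_apply, Module.End.one_apply, map_smul,
          map_sub, hA, ← smul_neg, neg_sub]
      · simp only [E, LinearMap.smul_apply, LinearMap.sub_apply, Module.End.one_apply, hM.1 hv]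
        module
    have h := hE.trace
    simp only [E, map_smul, map_sub, LinearMap.trace_one, Module.finrank_fin_fun, smul_eq_mul] at h
    push_cast
    linear_combination (-2 : ℂ) * h
  · set e := Submodule.prodEquivOfIsCompl P M hc
    have hconj : J = (e : ↥P × ↥M →ₗ[ℂ] (Fin d → ℂ)) ∘ₗ
        (LinearMap.id.prodMap ((-1 : ℂ) • LinearMap.id)) ∘ₗ
          (e.symm : (Fin d → ℂ) →ₗ[ℂ] ↥P × ↥M) := by
      refine LinearMap.ext fun v => ?_
      obtain ⟨⟨u, w⟩, rfl⟩ := e.surjective v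
      simp [e, hP.1 u.2, hM.1 w.2]
    rw [hconj, LinearMap.det_conj, LinearMap.det_prodMap, LinearMap.det_smul, LinearMap.det_id,
      LinearMap.det_id, one_mul, mul_one]

theorem even_of_neg_one_pow {m : ℕ} (h : (-1 : ℂ) ^ m = 1) : Even m := by
  by_contra hne
  rw [(Nat.not_even_iff_odd.1 hne).neg_one_pow] at h
  norm_num at h

variable {p : ℕ} [hp : Fact p.Prime]

section Sums

variable {G : Type u} [Group G] [Fintype G] {L : Local p G} {u : G}
  (hu : u ∈ (L.P : Subgroup G)) (hu1 : u ≠ 1) (hKc : L.K = Subgroup.center G)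
  (ht : 2 * Nat.card (auts u (L.pow_p hu)) ≤ p - 1) {φ : L.K →* ℂˣ}

include hu hu1 hKc ht

/-- The rows of a sum against the values at `u`. -/
theorem sum_rows (F : IrrCharacter G → ℂ) :
    ∑ χ ∈ overSet φ, (χ : G → ℂ) u * F χ = ∑ χ ∈ flatSet (L := L) u φ, (χ : G → ℂ) u * F χ +
      ∑ χ ∈ unitSet hu φ, (χ : G → ℂ) u * F χ := by
  classical
  rw [← Finset.sum_union (disjoint_flat_unit hu hu1 hKc ht)]
  refine (Finset.sum_subset (fun χ hχ => ?_) fun χ hχ hχ' => ?_).symm
  · rcases Finset.mem_union.1 hχ with h | h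
    · exact mem_overSet.2 (mem_flatSet.1 h).1
    · exact mem_overSet.2 ((mem_unitSet hu).1 h).1
  · rw [Finset.mem_union, not_or] at hχ'
    rcases row hu hu1 hKc (mem_overSet.1 hχ) with ⟨a, -, ha⟩ | ⟨l₁, hl, s, hs, h⟩
    · have h0 : a = 0 := by
        by_contra h0
        exact hχ'.1 (mem_flatSet.2 ⟨mem_overSet.1 hχ, a, h0, ha⟩)
      rw [value_flat_one ha, h0, Int.cast_zero, zero_mul]
    · exact absurd ((mem_unitSet hu).2 ⟨mem_overSet.1 hχ, l₁, s, hl, hs, h⟩) hχ'.2

/-- The rows of a column sum at two elements of `⟨u⟩`. -/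
theorem rows_orth {w : G} (hw : w ∈ (L.P : Subgroup G)) :
    ∑ χ ∈ flatSet (L := L) u φ, (χ : G → ℂ) u * conj ((χ : G → ℂ) w) +
      ∑ χ ∈ unitSet hu φ, (χ : G → ℂ) u * conj ((χ : G → ℂ) w) =
      ∑ χ ∈ overSet φ, (χ : G → ℂ) u * conj ((χ : G → ℂ) w) :=
  (sum_rows hu hu1 hKc ht (fun χ => conj ((χ : G → ℂ) w))).symm

/-- The values at `u` of a constant row. -/
theorem flat_value {χ : IrrCharacter G} (h : χ ∈ flatSet (L := L) u φ) :
    ∃ a : ℤ, (a = 1 ∨ a = -1) ∧ (χ : G → ℂ) u = a ∧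
      (∀ i : ZMod p, i ≠ 0 → (χ : G → ℂ) (upow u i) = a) ∧
      ∃ m : ℕ, (Cfsg.charDegree (χ : G → ℂ) : ℤ) + ((p : ℤ) - 1) * a = (p : ℤ) * m := by
  obtain ⟨hov, b, hb, hfb⟩ := mem_flatSet.1 h
  rcases row hu hu1 hKc hov with ⟨a, ha, hfa⟩ | ⟨l₁, hl, s, hs, h'⟩
  · have hab : a = b := Int.cast_injective (α := ℂ)
      ((value_flat_one hfa).symm.trans (value_flat_one hfb))
    subst hab
    exact ⟨a, ha.resolve_left hb, value_flat_one hfa, fun i hi => value_flat hfa hi,
      deg_flat hu hu1 hfa⟩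
  · exact absurd hfb fun h1 => not_flat_of_unit1 hu hu1 ht hl hs h' h1

theorem sum_flat_sq :
    ∑ χ ∈ flatSet (L := L) u φ, (χ : G → ℂ) u * conj ((χ : G → ℂ) u) =
      (Nat.card (auts u (L.pow_p hu)) : ℂ) := by
  rw [Finset.sum_congr rfl (g := fun _ => (1 : ℂ)) fun χ hχ => ?_, Finset.sum_const,
    card_flatSet hu hu1 hKc ht, nsmul_one]
  obtain ⟨a, ha, hv, -⟩ := flat_value hu hu1 hKc ht hχ
  rw [hv]
  rcases ha with r | r <;> subst r <;> simp

end Sums

variable {G : Type} [Group G] [Fintype G]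
variable {ρ : Representation ℂ G (Fin 16 → ℂ)} [ρ.IsIrreducible] {L : Local p G} {u : G}
  (H : Lin16 ρ L u)

include H

/-- An involution modulo the centre. -/
theorem Lin16.exists_involution : ∃ x : G, x ∉ L.K ∧ x * x ∈ L.K := by
  haveI : L.K.Normal := H.K_center ▸ inferInstance
  haveI : Fact (Nat.Prime 2) := ⟨Nat.prime_two⟩
  obtain ⟨q, hq⟩ := exists_prime_orderOf_dvd_card' (G := G ⧸ L.K) 2 (by
    rw [← Subgroup.index_eq_card]
    exact (show 2 ∣ 16 by norm_num).trans H.sixteen_dvd)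
  obtain ⟨x, rfl⟩ := QuotientGroup.mk'_surjective L.K q
  refine ⟨x, fun hx => ?_, ?_⟩
  · rw [QuotientGroup.mk'_apply, (QuotientGroup.eq_one_iff x).2 hx, orderOf_one] at hq
    norm_num at hq
  · rw [← QuotientGroup.eq_one_iff]
    have := pow_orderOf_eq_one (QuotientGroup.mk' L.K x)
    rwa [hq, pow_two, ← map_mul] at this

omit H in
theorem not_dvd_orderOf_sq (hp2 : p ≠ 2) {x : G} (hx : x * x ∈ L.K) : ¬ p ∣ orderOf x := fun h => by
  have h1 : orderOf x ∣ 2 * orderOf (x * x) := orderOf_dvd_of_pow_eq_one (by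
    rw [pow_mul, pow_two, pow_orderOf_eq_one])
  rcases hp.out.dvd_mul.1 (h.trans h1) with h2 | h2
  · exact hp2 ((Nat.prime_dvd_prime_iff_eq hp.out Nat.prime_two).1 h2)
  · exact L.not_dvd_orderOf hx h2

/-- The values at an involution modulo the centre of a character trivial on the centre. -/
theorem Lin16.involution_value {χ : IrrCharacter G} (hχ : Over L 1 (χ : G → ℂ)) {x : G}
    (hx : x * x ∈ L.K) :
    ∃ c : ℤ, (χ : G → ℂ) x = c ∧ c ≤ Cfsg.charDegree (χ : G → ℂ) ∧
      -(Cfsg.charDegree (χ : G → ℂ) : ℤ) ≤ c ∧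
      c % 4 = (Cfsg.charDegree (χ : G → ℂ) : ℤ) % 4 := by
  obtain ⟨n, σ, hσ, hσχ⟩ := id χ.2
  have hn : Cfsg.charDegree (χ : G → ℂ) = n := by
    rw [← hσχ]; simp [Cfsg.charDegree, Representation.char_one]
  have h1 : σ (x * x) = LinearMap.id := (char_eq_finrank_iff σ _).1 (by
    rw [hσχ, show x * x = 1 * ((⟨x * x, hx⟩ : L.K) : G) by rw [one_mul], hχ 1, MonoidHom.one_apply,
      Units.val_one, one_mul, ← hσχ, Representation.char_one])
  obtain ⟨m, hmn, htr, hdet⟩ := trace_det_involution (σ x) (by rw [← map_mul, h1]; rfl)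
  rw [H.det_one σ x] at hdet
  obtain ⟨j, rfl⟩ := even_of_neg_one_pow hdet.symm
  refine ⟨(n : ℤ) - 2 * ((j + j : ℕ) : ℤ), ?_, by rw [hn]; omega, by rw [hn]; omega, by rw [hn]; omega⟩
  rw [← hσχ]
  exact htr

/-- A nontrivial character trivial on the centre is not a bounded-degree one. -/
theorem Lin16.deg_sq_gt {χ : IrrCharacter G} (hχ : Over L 1 (χ : G → ℂ))
    (hne : ∃ g : G, (χ : G → ℂ) g ≠ (χ : G → ℂ) 1) :
    p < (Cfsg.charDegree (χ : G → ℂ) + 1) ^ 2 := by
  classical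
  obtain ⟨n, σ, hσ, hσχ⟩ := id χ.2
  have hn : Cfsg.charDegree (χ : G → ℂ) = n := by
    rw [← hσχ]; simp [Cfsg.charDegree, Representation.char_one]
  rw [hn]
  by_contra hle
  push Not at hle
  obtain ⟨g, hg⟩ := hne
  have hker : u ∈ σ.ker := by
    haveI : Finite (Im σ) := Finite.of_surjective _ (toIm_surjective σ)
    haveI := Fintype.ofFinite (Im σ)
    set f := toIm σ
    obtain ⟨Q, hQ⟩ := ((PElem.of_pow_p (p := p) H.pow).map f).exists_sylow
    have hQn := CharactersDeep.SmallDegree.normal_sylow (imRep σ) (imRep_injective σ) (Or.inl hle) Q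
    have hgen := H.gen.of_surjective f (toIm_surjective σ)
    have htop : (Q : Subgroup (Im σ)) = ⊤ := hgen.eq_top fun y hy => by
      obtain ⟨Q', hQ'⟩ := hy.exists_sylow
      obtain ⟨c, rfl⟩ := MulAction.exists_smul_eq (Im σ) Q Q'
      haveI := hQn
      rwa [Sylow.smul_eq_of_normal] at hQ'
    have hab : ∀ a b : Im σ, a * b = b * a := fun a b => (commute_of_isPGroup (imRep σ)
      (imRep_injective σ) (by
        have : n + 1 ≤ (n + 1) ^ 2 := Nat.le_self_pow two_ne_zero _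
        omega) Q.isPGroup' (htop ▸ Subgroup.mem_top a) (htop ▸ Subgroup.mem_top b)).eq
    have hk : g ∈ f.ker ∧ u ∈ f.ker := by
      have hle : commutator G ≤ f.ker := by
        rw [commutator_eq_closure, Subgroup.closure_le]
        rintro _ ⟨a, b, rfl⟩
        rw [SetLike.mem_coe, MonoidHom.mem_ker, map_commutatorElement,
          commutatorElement_eq_one_iff_commute]
        exact hab _ _
      rw [H.perfect] at hle
      exact ⟨hle (Subgroup.mem_top g), hle (Subgroup.mem_top u)⟩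
    exfalso
    refine hg ?_
    rw [← hσχ]
    show LinearMap.trace ℂ _ (σ g) = LinearMap.trace ℂ _ (σ 1)
    rw [(toIm_eq_one_iff σ g).1 hk.1, map_one σ]
  refine hg ?_
  have htop : σ.ker = ⊤ := H.gen.eq_top fun y hy => by
    by_cases h1 : y = 1
    · rw [h1]; exact one_mem _
    · exact SmallDegreeP.mem_normal_of_orderOf H.sq hker H.order (orderOf_of_pelem H.sq hy h1)
  rw [← hσχ]
  show LinearMap.trace ℂ _ (σ g) = LinearMap.trace ℂ _ (σ 1)
  rw [MonoidHom.mem_ker.1 (htop ▸ Subgroup.mem_top g : g ∈ σ.ker), map_one σ]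

/-- A character trivial on the centre and nonconstant has kernel the centre. -/
theorem Lin16.ker_le {χ : IrrCharacter G} (hne : (χ : G → ℂ) u ≠ (χ : G → ℂ) 1) {x : G}
    (hx : (χ : G → ℂ) x = (χ : G → ℂ) 1) : x ∈ L.K := by
  classical
  obtain ⟨n, σ, hσ, hσχ⟩ := id χ.2
  have hker : ∀ g : G, g ∈ σ.ker ↔ (χ : G → ℂ) g = (χ : G → ℂ) 1 := fun g => by
    rw [MonoidHom.mem_ker, Module.End.one_eq_id, ← char_eq_finrank_iff σ g, ← hσχ,
      Representation.char_one]
  refine H.normal_le_K σ.ker (fun hd => hne ((hker u).1 ?_)) ((hker x).2 hx)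
  obtain ⟨w, hw⟩ := exists_prime_orderOf_dvd_card' (G := σ.ker) p hd
  exact SmallDegreeP.mem_normal_of_orderOf H.sq w.2 (by rw [Subgroup.orderOf_coe]; exact hw) H.order

end CfsgLib.DegreeSixteen
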