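import Cfsg.Agent.DegreeSixteen.Core.Coeff
import Cfsg.Agent.BrauerOrderP.Perfect

/-!
# Linear characters of the Sylow subgroup as residues modulo `p`, and the inertial index
-/

set_option autoImplicit false
set_option linter.style.haveILetI false
set_option linter.unusedSectionVars false

namespace CfsgLib.DegreeSixteen

open Cfsg CfsgLib.Characters CfsgLib.SmallDegreeP CfsgLib.DefectOne
open scoped ComplexConjugate

universe u

variable {p : ℕ} [hp : Fact p.Prime] {G : Type u} [Group G] [Fintype G] {L : Local p G} {u : G}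
  (hu : u ∈ (L.P : Subgroup G)) (hu1 : u ≠ 1)

/-- The residues as elements of `P`. -/
theorem exists_equivP (hu : u ∈ (L.P : Subgroup G)) (hu1 : u ≠ 1) :
    ∃ e : ZMod p ≃ (L.P : Subgroup G), ∀ i, (e i : G) = upow u i := by
  classical
  haveI := Fintype.ofFinite (L.P : Subgroup G)
  let ι : ZMod p → (L.P : Subgroup G) := fun i => ⟨upow u i, pow_mem hu _⟩
  have hι : Function.Bijective ι := by
    refine (Fintype.bijective_iff_injective_and_card ι).2 ⟨fun i j h => ?_, ?_⟩
    · have h' : u ^ i.val = u ^ j.val := congrArg Subtype.val h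
      rw [pow_inj_mod, L.orderOf_of_mem hu hu1, Nat.mod_eq_of_lt (ZMod.val_lt i),
        Nat.mod_eq_of_lt (ZMod.val_lt j)] at h'
      exact ZMod.val_injective p h'
    · rw [ZMod.card, ← Nat.card_eq_fintype_card, L.card_P]
  exact ⟨Equiv.ofBijective ι hι, fun i => rfl⟩

include hu hu1

theorem upow_ne_one {i : ZMod p} (hi : i ≠ 0) : upow u i ≠ 1 := by
  obtain ⟨e, he⟩ := exists_equivP hu hu1
  rw [← he, ← upow_zero (p := p) u, ← he]
  exact fun h => hi (e.injective (Subtype.ext h))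

/-- The linear character with exponent `l`. -/
noncomputable def lam (l : {l : ZMod p // l ≠ 0}) : L.Lam :=
  (exists_lam L hu hu1 l.1 l.2).choose

theorem lam_apply (l : {l : ZMod p // l ≠ 0}) (i : ZMod p) :
    ((lam hu hu1 l).1 ⟨upow u i, pow_mem hu _⟩ : ℂ) = ZMod.stdAddChar (i * l.1) :=
  (exists_lam L hu hu1 l.1 l.2).choose_spec i

theorem lam_injective : Function.Injective (lam hu hu1) := fun l m h => by
  have h1 := lam_apply hu hu1 l 1
  rw [h, lam_apply, one_mul, one_mul] at h1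
  haveI : NeZero p := ⟨hp.out.ne_zero⟩
  exact Subtype.ext (ZMod.injective_stdAddChar h1).symm

theorem lam_bijective : Function.Bijective (lam hu hu1) := by
  classical
  haveI := L.finite_lam
  letI := Fintype.ofFinite L.Lam
  refine (Fintype.bijective_iff_injective_and_card _).2 ⟨lam_injective hu hu1, ?_⟩
  rw [Fintype.card_subtype_compl, Fintype.card_subtype_eq, ZMod.card, ← Nat.card_eq_fintype_card,
    L.card_lam]

/-- Two exponents in one orbit of the normalizer. -/
def SameOrb (u : G) (hup : u ^ p = 1) (l m : ZMod p) : Prop :=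
  ∃ a ∈ auts u hup, m = ((a : (ZMod p)ˣ) : ZMod p) * l

theorem colLam_eq_iff (O : L.Orb)
    (hfix : ∀ n : L.N, L.phiBy n (Quotient.out O : IrrCharacter L.K) = Quotient.out O)
    (l m : {l : ZMod p // l ≠ 0}) :
    L.colLam O (lam hu hu1 l) = L.colLam O (lam hu hu1 m) ↔
      SameOrb u (L.pow_p hu) l.1 m.1 := by
  haveI : NeZero p := ⟨hp.out.ne_zero⟩
  have hup := L.pow_p hu
  have key : ∀ (n : L.N) (a : ZMod p), (n : G) * u * (n : G)⁻¹ = upow u a →
      ((L.lamBy n (lam hu hu1 l)).1 ⟨upow u (1 : ZMod p), pow_mem hu _⟩ : ℂ) =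
        ZMod.stdAddChar (a * l.1) := fun n a ha => by
    rw [Local.lamBy_apply, ← lam_apply hu hu1 l a]
    congr 2
    refine Subtype.ext ?_
    rw [Local.coe_autP]
    simp only [upow_one]
    exact ha
  rw [Subtype.ext_iff]
  show L.col (lam hu hu1 l, _) = L.col (lam hu hu1 m, _) ↔ _
  rw [L.col_eq_iff]
  constructor
  · rintro ⟨n, hn⟩
    have h1 : lam hu hu1 m = L.lamBy n (lam hu hu1 l) := congrArg Prod.fst hn
    obtain ⟨e, he⟩ := exists_equivP hu hu1
    set a := e.symm ⟨(n : G) * u * (n : G)⁻¹, L.conj_mem_P n.2 hu⟩ with hadef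
    have ha : (n : G) * u * (n : G)⁻¹ = upow u a := by
      rw [← he, hadef, Equiv.apply_symm_apply]
    have ha0 : a ≠ 0 := fun h => by
      rw [h, upow_zero, conj_eq_one_iff] at ha
      exact hu1 ha
    refine ⟨Units.mk0 a ha0, ⟨n, ha⟩, ?_⟩
    have h2 := key n a ha
    rw [← h1, lam_apply, one_mul] at h2
    exact ZMod.injective_stdAddChar h2
  · rintro ⟨a, ⟨g, hg⟩, hm⟩
    have hgN : g ∈ L.N := L.mem_N_of_conj hu hu1 (by rw [hg]; exact pow_mem hu _)
    refine ⟨⟨g, hgN⟩, Prod.ext ?_ (hfix _).symm⟩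
    obtain ⟨e, he⟩ := exists_equivP hu hu1
    refine Subtype.ext (MonoidHom.ext fun v => ?_)
    obtain ⟨i, hi⟩ := e.surjective v
    have hv : v = (⟨upow u (1 : ZMod p), pow_mem hu _⟩ : (L.P : Subgroup G)) ^ i.val :=
      Subtype.ext (by rw [← hi, he, SubmonoidClass.coe_pow]; simp only [upow_one]; rfl)
    show (lam hu hu1 m).1 v = (L.lamBy ⟨g, hgN⟩ (lam hu hu1 l)).1 v
    rw [hv, map_pow, map_pow]
    congr 1
    refine Units.ext ?_
    rw [lam_apply, one_mul, hm]
    exact (key ⟨g, hgN⟩ _ hg).symm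

omit hu hu1 in
theorem phiBy_oneK (n : L.N) :
    L.phiBy n (Quotient.out (BrauerOrderP.O0 L) : IrrCharacter L.K) =
      Quotient.out (BrauerOrderP.O0 L) := by
  rw [BrauerOrderP.out_O0]
  exact Subtype.ext (funext fun k => rfl)

/-- The inertial index is the number of exponents of conjugation. -/
theorem e_eq_card_auts : BrauerOrderP.e L = Nat.card (auts u (L.pow_p hu)) := by
  classical
  haveI := L.finite_lam
  letI := Fintype.ofFinite L.Lam
  set l1 : {l : ZMod p // l ≠ 0} := ⟨1, one_ne_zero⟩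
  have h := BrauerOrderP.fibre_card L (L.colLam (BrauerOrderP.O0 L) (lam hu hu1 l1))
  rw [← h, ← Fintype.card_subtype, ← Nat.card_eq_fintype_card]
  refine (Nat.card_eq_of_bijective (fun a : auts u (L.pow_p hu) =>
    (⟨lam hu hu1 ⟨((a : (ZMod p)ˣ) : ZMod p), Units.ne_zero _⟩,
      ((colLam_eq_iff hu hu1 (BrauerOrderP.O0 L) phiBy_oneK l1 ⟨_, Units.ne_zero _⟩).2
        ⟨a, a.2, by simp [l1]⟩).symm⟩ : {x : L.Lam // L.colLam (BrauerOrderP.O0 L) x =
          L.colLam (BrauerOrderP.O0 L) (lam hu hu1 l1)})) ⟨?_, ?_⟩).symm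
  · intro a b hab
    have h1 : lam hu hu1 ⟨((a : (ZMod p)ˣ) : ZMod p), Units.ne_zero _⟩ =
        lam hu hu1 ⟨((b : (ZMod p)ˣ) : ZMod p), Units.ne_zero _⟩ := Subtype.ext_iff.1 hab
    exact Subtype.ext (Units.ext (congrArg Subtype.val (lam_injective hu hu1 h1)))
  · rintro ⟨x, hx⟩
    obtain ⟨m, rfl⟩ := (lam_bijective hu hu1).2 x
    obtain ⟨a, ha, hm⟩ :=
      (colLam_eq_iff hu hu1 (BrauerOrderP.O0 L) phiBy_oneK l1 m).1 hx.symm
    refine ⟨⟨a, ha⟩, Subtype.ext (congrArg (lam hu hu1) (Subtype.ext ?_))⟩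
    simp [hm, l1]

end CfsgLib.DegreeSixteen
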