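import Cfsg.Agent.DegreeSixteen.Core.Common
import Cfsg.Agent.DegreeSixteen.Core.ArithNineteen

/-!
# The prime 19 does not occur
-/

set_option autoImplicit false
set_option linter.style.haveILetI false
set_option linter.unusedSectionVars false

namespace CfsgLib.DegreeSixteen

open Cfsg CfsgLib.Characters CfsgLib.SmallDegreeP CfsgLib.DefectOne
open scoped ComplexConjugate

universe u

local instance fact19 : Fact (Nat.Prime 19) := ⟨by norm_num⟩

theorem cube_roots : ∀ x : ZMod 19, x ^ 3 = 1 → x ∈ ({1, 7, 11} : Finset (ZMod 19)) := by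
  decide +kernel

theorem orbF_nineteen {G : Type u} [Group G] [Fintype G] {u : G} (hup : u ^ 19 = 1)
    (h3 : Nat.card (auts u hup) = 3) {l₀ : ZMod 19} (hl₀ : l₀ ≠ 0) :
    orbF u hup l₀ = ({1, 7, 11} : Finset (ZMod 19)).image (· * l₀) := by
  refine Finset.eq_of_subset_of_card_le (fun l hl => ?_) ?_
  · obtain ⟨a, ha, rfl⟩ := mem_orbF.1 hl
    refine Finset.mem_image.2 ⟨_, cube_roots _ ?_, rfl⟩
    have h := congrArg Subtype.val (pow_card_eq_one' (x := (⟨a, ha⟩ : auts u hup)))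
    rw [h3] at h
    rw [← Units.val_pow_eq_pow_val]
    exact congrArg Units.val h
  · rw [card_orbF hl₀, h3]
    exact Finset.card_image_le.trans_eq (by decide +kernel)

section

variable {G : Type} [Group G] [Fintype G]
variable {ρ : Representation ℂ G (Fin 16 → ℂ)} [ρ.IsIrreducible] {L : Local 19 G} {u : G}
  (H : Lin16 ρ L u)

include H

theorem Lin16.nineteen_e : Nat.card (auts u H.pow) = 3 := by
  obtain ⟨_, -, -, ⟨-, h⟩ | ⟨h, -⟩⟩ := H.cases
  · exact h
  · norm_num at h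

/-- The coefficients of the square of the modulus. -/
theorem Lin16.cc_normSq {l₀ : ZMod 19} (hl₀ : l₀ ≠ 0) (h₀ : Unit1 u H.pow ρ.character l₀ 1) :
    cc u (fun g => ρ.character g * conj (ρ.character g)) l₀ = 3 ∧
      cc u (fun g => ρ.character g * conj (ρ.character g)) (6 * l₀) = 2 ∧
      ∑ l ∈ Finset.univ.erase (0 : ZMod 19),
        cc u (fun g => ρ.character g * conj (ρ.character g)) l = 48 := by
  classical
  set S : Finset (ZMod 19) := {1, 7, 11}
  set F : G → ℂ := fun g => ρ.character g * conj (ρ.character g)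
  have hval : ∀ i : ZMod 19, i ≠ 0 → F (upow u i) =
      ∑ q ∈ S ×ˢ S, (1 : ℂ) * ZMod.stdAddChar (i * ((q.1 - q.2) * l₀)) := by
    intro i hi
    show ρ.character (upow u i) * conj (ρ.character (upow u i)) = _
    rw [value_unit1 hl₀ h₀ hi, orbF_nineteen H.pow H.nineteen_e hl₀,
      Finset.sum_image fun a _ b _ h => mul_right_cancel₀ hl₀ h, map_mul, map_sum, Finset.sum_product]
    simp only [Int.cast_one, map_neg, map_one, one_mul, neg_mul, neg_neg, mul_neg,
      Finset.sum_mul_sum]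
    refine Finset.sum_congr rfl fun a _ => Finset.sum_congr rfl fun b _ => ?_
    rw [← AddChar.map_neg_eq_conj, ← std_add]
    ring_nf
  have hcc : ∀ c : ZMod 19, cc u F (c * l₀) =
      (((S ×ˢ S).filter fun q => q.1 - q.2 = 0).card : ℂ) -
        ((S ×ˢ S).filter fun q => q.1 - q.2 = c).card := by
    intro c
    rw [cc_of_sum u (S ×ˢ S) (fun _ => (1 : ℂ)) _ F hval (c * l₀)]
    simp only [one_mul, Finset.sum_sub_distrib, Finset.sum_boole, mul_eq_zero, hl₀, or_false,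
      mul_left_inj' hl₀]
  refine ⟨?_, ?_, ?_⟩
  · have h := hcc 1
    rw [one_mul, show ((S ×ˢ S).filter fun q => q.1 - q.2 = 0).card = 3 by decide +kernel,
      show ((S ×ˢ S).filter fun q => q.1 - q.2 = 1).card = 0 by decide +kernel] at h
    rw [h]; norm_num
  · have h := hcc 6
    rw [show ((S ×ˢ S).filter fun q => q.1 - q.2 = 0).card = 3 by decide +kernel,
      show ((S ×ˢ S).filter fun q => q.1 - q.2 = 6).card = 1 by decide +kernel] at h
    rw [h]; norm_num
  · rw [Finset.sum_erase _ (cc_zero u F), ← Equiv.sum_comp (Equiv.mulRight₀ l₀ hl₀) (fun l => cc u F l)]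
    show ∑ c : ZMod 19, cc u F (c * l₀) = 48
    simp only [hcc]
    rw [Finset.sum_sub_distrib, Finset.sum_const, Finset.card_univ, ZMod.card, ← Nat.cast_sum,
      show ((S ×ˢ S).filter fun q => q.1 - q.2 = 0).card = 3 by decide +kernel,
      show (∑ c : ZMod 19, ((S ×ˢ S).filter fun q => q.1 - q.2 = c).card) = 9 by decide +kernel]
    norm_num

/-- The constant rows over the trivial character. -/
theorem Lin16.block_one :
    ∃ (t X Z : IrrCharacter G) (aX aZ : ℤ), (t : G → ℂ) = (fun _ => 1) ∧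
      flatSet (L := L) u 1 = {t, X, Z} ∧ t ≠ X ∧ t ≠ Z ∧ X ≠ Z ∧
      (X : G → ℂ) u = aX ∧ (Z : G → ℂ) u = aZ ∧
      ((aX = 1 ∧ aZ = 1) ∨ (aX = 1 ∧ aZ = -1) ∨ (aX = -1 ∧ aZ = -1)) := by
  classical
  obtain ⟨t, ht, hto, htf⟩ := exists_triv (p := 19) (L := L) u
  have htmem : t ∈ flatSet (L := L) u 1 := mem_flatSet.2 ⟨hto, 1, one_ne_zero, htf⟩
  have hcard : ((flatSet (L := L) u 1).erase t).card = 2 := by
    rw [Finset.card_erase_of_mem htmem, card_flatSet H.mem H.ne H.K_center H.two_mul_e, H.nineteen_e]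
  obtain ⟨X, Z, hXZ, hS⟩ := Finset.card_eq_two.1 hcard
  have hX : X ∈ (flatSet (L := L) u 1).erase t := by rw [hS]; simp
  have hZ : Z ∈ (flatSet (L := L) u 1).erase t := by rw [hS]; simp
  have hset : flatSet (L := L) u 1 = {t, X, Z} := by
    rw [← Finset.insert_erase htmem, hS]
  obtain ⟨aX, haX, hXu, -⟩ := flat_value H.mem H.ne H.K_center H.two_mul_e (Finset.mem_of_mem_erase hX)
  obtain ⟨aZ, haZ, hZu, -⟩ := flat_value H.mem H.ne H.K_center H.two_mul_e (Finset.mem_of_mem_erase hZ)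
  have htX := (Finset.ne_of_mem_erase hX).symm
  have htZ := (Finset.ne_of_mem_erase hZ).symm
  by_cases hsw : aX = -1 ∧ aZ = 1
  · exact ⟨t, Z, X, aZ, aX, ht, by rw [hset, Finset.pair_comm], htZ, htX, hXZ.symm, hZu, hXu,
      Or.inr (Or.inl ⟨hsw.2, hsw.1⟩)⟩
  · refine ⟨t, X, Z, aX, aZ, ht, hset, htX, htZ, hXZ, hXu, hZu, ?_⟩
    omega

/-- A constant row other than the trivial one. -/
theorem Lin16.flat_nontrivial {t X : IrrCharacter G} (ht : (t : G → ℂ) = fun _ => 1)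
    (hX : X ∈ flatSet (L := L) u 1) (hne : t ≠ X) {a : ℤ} (ha : (X : G → ℂ) u = a) :
    (a = 1 ∨ a = -1) ∧ 18 ≤ Cfsg.charDegree (X : G → ℂ) ∧
      (Cfsg.charDegree (X : G → ℂ) : ℤ) % 19 = a % 19 ∧ (X : G → ℂ) u ≠ (X : G → ℂ) 1 := by
  classical
  obtain ⟨a', ha', hv, -, m, hm⟩ := flat_value H.mem H.ne H.K_center H.two_mul_e hX
  obtain rfl : a = a' := Int.cast_injective (α := ℂ) (ha.symm.trans hv)
  have hg : ∃ g : G, (X : G → ℂ) g ≠ (X : G → ℂ) 1 := by
    by_contra hcon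
    push Not at hcon
    refine hne (Subtype.ext (funext fun g => ?_))
    rw [ht]
    show (1 : ℂ) = (X : G → ℂ) g
    have hi := classInner_isIrr_self X.2
    have h1 := classInner_isIrr_ne (isIrr_one (G := G)) X.2
    by_contra hne1
    have h2 := h1 fun e => hne1 (congrFun e g)
    have hc : (X : G → ℂ) = (X : G → ℂ) 1 • fun _ => (1 : ℂ) := funext fun g => by
      simp [hcon g]
    rw [hc] at h2
    simp only [Cfsg.classInner, Pi.smul_apply, smul_eq_mul, mul_one, one_mul, Finset.sum_const,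
      Finset.card_univ, nsmul_eq_mul, Fintype.card_eq_nat_card, mul_eq_zero, inv_eq_zero,
      natCard_ne_zero, false_or, map_eq_zero] at h2
    exact irr_one_ne_zero X.2 h2
  have h := H.deg_sq_gt (mem_flatSet.1 hX).1 hg
  have h4 : 4 ≤ Cfsg.charDegree (X : G → ℂ) := by
    by_contra hlt
    have : (Cfsg.charDegree (X : G → ℂ) + 1) ^ 2 ≤ 4 ^ 2 :=
      Nat.pow_le_pow_left (by omega) 2
    omega
  have hmod : (Cfsg.charDegree (X : G → ℂ) : ℤ) % 19 = a % 19 := by omega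
  have h18 : 18 ≤ Cfsg.charDegree (X : G → ℂ) := by omega
  refine ⟨ha', h18, hmod, ?_⟩
  rw [ha, ← Blocks.charDegree_cast X]
  intro he
  have : a = (Cfsg.charDegree (X : G → ℂ) : ℤ) := by exact_mod_cast he
  omega

/-- The unit row over the trivial character. -/
theorem Lin16.unit_one_row :
    ∃ (χ₀ : IrrCharacter G) (s : ℤ), (s = 1 ∨ s = -1) ∧ Over L 1 (χ₀ : G → ℂ) ∧
      Unit1 u H.pow (χ₀ : G → ℂ) 1 s ∧ 4 ≤ Cfsg.charDegree (χ₀ : G → ℂ) ∧
      ((Cfsg.charDegree (χ₀ : G → ℂ) : ℤ) + 3 * s) % 19 = 0 ∧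
      (χ₀ : G → ℂ) u ≠ (χ₀ : G → ℂ) 1 := by
  obtain ⟨χ₀, hov, s, hs, h₀⟩ := exists_unit1 H.mem H.ne H.K_center H.two_mul_e (1 : L.K →* ℂˣ)
    (one_ne_zero (α := ZMod 19))
  have hne := unit_nonconst H.mem H.ne H.K_center H.two_mul_e one_ne_zero hs h₀
  obtain ⟨m, hm⟩ := deg_unit1 H.mem H.ne one_ne_zero h₀
  rw [H.nineteen_e] at hm
  refine ⟨χ₀, s, hs, hov, h₀, ?_, by omega, hne⟩
  have h := H.deg_sq_gt hov ⟨u, hne⟩
  by_contra hlt
  have : (Cfsg.charDegree (χ₀ : G → ℂ) + 1) ^ 2 ≤ 4 ^ 2 :=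
    Nat.pow_le_pow_left (by omega) 2
  omega

/-- The last case: degrees `1, 77, 56` and `22`. -/
theorem Lin16.no_77 {t X Z χ₀ : IrrCharacter G} (ht : (t : G → ℂ) = fun _ => 1)
    (hset : flatSet (L := L) u 1 = {t, X, Z}) (htX : t ≠ X) (htZ : t ≠ Z) (hXZ : X ≠ Z)
    (hXu : (X : G → ℂ) u = 1) (hZu : (Z : G → ℂ) u = -1)
    (hov : Over L 1 (χ₀ : G → ℂ)) (h₀ : Unit1 u H.pow (χ₀ : G → ℂ) 1 (-1))
    (hne : (χ₀ : G → ℂ) u ≠ (χ₀ : G → ℂ) 1)
    (hX1 : (X : G → ℂ) 1 = 77) (hZ1 : (Z : G → ℂ) 1 = 56) (hy : (χ₀ : G → ℂ) 1 = 22)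
    {θ : G → ℂ} (hθ : Cfsg.IsCharacter G θ) (hθo : Over L 1 θ) (hθ1 : θ 1 = 57)
    (hθv : ∀ g : G, ¬ 19 ∣ orderOf g →
      ρ.character g * conj (ρ.character g) = 1 + 2 * (X : G → ℂ) g + 2 * (χ₀ : G → ℂ) g + θ g) :
    False := by
  classical
  have hsum : ∀ f : IrrCharacter G → ℂ, ∑ χ ∈ flatSet (L := L) u 1, f χ = f t + (f X + f Z) :=
    fun f => by
      rw [hset, Finset.sum_insert (by simp [htX, htZ]), Finset.sum_pair hXZ]
  have hu0 := H.mem
  refine H.false_of_negative hθ hθo (R := 57) (a := 23) (by rw [hθ1]; norm_num) (by norm_num)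
    fun x hxK hx => ?_
  have hreg := H.regular_invol hx
  obtain ⟨c0, hc0, l0, g0, r0⟩ := H.involution_value hov hx
  obtain ⟨cX, hcX, lX, gX, rX⟩ := H.involution_value
    (mem_flatSet.1 (show X ∈ flatSet (L := L) u 1 by rw [hset]; simp)).1 hx
  obtain ⟨cZ, hcZ, lZ, gZ, rZ⟩ := H.involution_value
    (mem_flatSet.1 (show Z ∈ flatSet (L := L) u 1 by rw [hset]; simp)).1 hx
  have dX : Cfsg.charDegree (X : G → ℂ) = 77 := by
    exact_mod_cast (Blocks.charDegree_cast X).trans hX1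
  have dZ : Cfsg.charDegree (Z : G → ℂ) = 56 := by
    exact_mod_cast (Blocks.charDegree_cast Z).trans hZ1
  have d0 : Cfsg.charDegree (χ₀ : G → ℂ) = 22 := by
    exact_mod_cast (Blocks.charDegree_cast χ₀).trans hy
  rw [dX] at lX gX rX
  rw [dZ] at lZ gZ rZ
  rw [d0] at l0 g0 r0
  have hs : (-1 : ℤ) = 1 ∨ (-1 : ℤ) = -1 := Or.inr rfl
  have hrel : cX = c0 + cZ - 1 := by
    have h := relation H.mem H.ne H.K_center H.two_mul_e hov one_ne_zero hs h₀ hreg
    rw [hsum, ht, hXu, hZu, hcX, hcZ, hc0] at h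
    have h' : ((cX : ℤ) : ℂ) = ((c0 + cZ - 1 : ℤ) : ℂ) := by
      push_cast
      push_cast at h
      linear_combination h
    exact_mod_cast h'
  have hc022 : c0 ≠ 22 := fun he => hxK (H.ker_le hne (by rw [hc0, hy, he]; norm_num))
  have hE : 616 + 8 * cX ^ 2 - 11 * cZ ^ 2 - 28 * c0 ^ 2 = 0 := by
    have h := tsum_sq_eq H.mem H.ne H.K_center H.two_mul_e hov one_ne_zero hs h₀ hreg
    rw [H.tsum_sq_zero (by rw [H.nineteen_e]; decide) hx, hsum, ht, hXu, hZu, hcX, hcZ, hc0, hX1,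
      hZ1, hy] at h
    have h' : ((616 + 8 * cX ^ 2 - 11 * cZ ^ 2 - 28 * c0 ^ 2 : ℤ) : ℂ) = ((0 : ℤ) : ℂ) := by
      push_cast
      push_cast at h
      linear_combination (-616 : ℂ) * h
    exact_mod_cast h'
  have hflat : ∀ f : IrrCharacter G → ℂ,
      ∑ χ ∈ flatSet (L := L) u 1, (χ : G → ℂ) u * ((χ : G → ℂ) x / (χ : G → ℂ) 1 * f χ) =
        f t + ((cX : ℂ) / 77 * f X - (cZ : ℂ) / 56 * f Z) := by
    intro f
    rw [hsum, ht, hXu, hZu, hcX, hcZ, hX1, hZ1]
    ring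
  have hnc : ¬ IsConj u (upow u (-1 : ZMod 19)) :=
    not_isConj_inv H.mem H.ne (by norm_num) (by rw [H.nineteen_e]; decide)
  have hneg1 : upow u (-1 : ZMod 19) = u⁻¹ := by rw [upow_neg H.pow, upow_one]
  have hinv : ∀ χ : IrrCharacter G, conj ((χ : G → ℂ) (upow u (-1 : ZMod 19))) = (χ : G → ℂ) u :=
    fun χ => by rw [hneg1, character_inv (isCharacter_of_isIrr χ.2), Complex.conj_conj]
  have hts : ∀ (φ : L.K →* ℂˣ) (w : G), tsum x u w φ =
      ∑ χ ∈ overSet φ, (χ : G → ℂ) u * ((χ : G → ℂ) x / (χ : G → ℂ) 1 * conj ((χ : G → ℂ) w)) :=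
    fun φ w => Finset.sum_congr rfl fun χ _ => by ring
  obtain ⟨rA, hrA0, hrA, hbA, -, -⟩ := tsum_bound H.K_center x u u
  obtain ⟨rB, hrB0, hrB, hbB, -, -⟩ := tsum_bound H.K_center x u (upow u (-1 : ZMod 19))
  have heA : (616 : ℝ) * rA = ((616 + 8 * cX + 11 * cZ + 448 * c0 : ℤ) : ℝ) := by
    have h := hts 1 u
    rw [sum_rows_regular H.mem H.ne H.K_center H.two_mul_e hov one_ne_zero hs h₀ hreg, hflat,
      unit_norm H.mem H.ne H.K_center H.two_mul_e, hrA, hc0, hy, H.nineteen_e, hXu, hZu, ht] at h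
    have h' : ((616 * rA : ℝ) : ℂ) = (((616 + 8 * cX + 11 * cZ + 448 * c0 : ℤ) : ℝ) : ℂ) := by
      push_cast
      simp only [map_one, map_neg] at h
      push_cast at h
      linear_combination (616 : ℂ) * h
    exact_mod_cast h'
  have heB : (616 : ℝ) * rB = ((616 + 8 * cX + 11 * cZ - 84 * c0 : ℤ) : ℝ) := by
    have h := hts 1 (upow u (-1 : ZMod 19))
    rw [sum_rows_regular H.mem H.ne H.K_center H.two_mul_e hov one_ne_zero hs h₀ hreg, hflat,
      unit_cross H.mem H.ne H.K_center H.two_mul_e (by decide) hnc, hrB, hc0, hy, H.nineteen_e,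
      hinv t, hinv X, hinv Z, hXu, hZu, ht] at h
    have h' : ((616 * rB : ℝ) : ℂ) = (((616 + 8 * cX + 11 * cZ - 84 * c0 : ℤ) : ℝ) : ℂ) := by
      push_cast
      push_cast at h
      linear_combination (616 : ℂ) * h
    exact_mod_cast h'
  have hA : 0 ≤ 616 + 8 * cX + 11 * cZ + 448 * c0 := by
    have : (0 : ℝ) ≤ ((616 + 8 * cX + 11 * cZ + 448 * c0 : ℤ) : ℝ) := heA ▸ by positivity
    exact_mod_cast this
  have hB : 0 ≤ 616 + 8 * cX + 11 * cZ - 84 * c0 := by
    have : (0 : ℝ) ≤ ((616 + 8 * cX + 11 * cZ - 84 * c0 : ℤ) : ℝ) := heB ▸ by positivity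
    exact_mod_cast this
  obtain ⟨l₀, hl₀, hm, -⟩ := H.cases
  have hψ := H.unit1 hm hl₀
  obtain ⟨φ, hφ, -, -⟩ := H.exists_phi
  set ψ : IrrCharacter G := irrOf ρ
  have hψo : Over L φ (ψ : G → ℂ) := hφ
  have hψ' : Unit1 u H.pow (ψ : G → ℂ) l₀ 1 := hψ
  obtain ⟨j, hj8, hjn, hjsq⟩ := H.norm_invol hx
  have hdiff : tsum x u u φ - tsum x u (upow u (-1 : ZMod 19)) φ =
      ρ.character x / 16 * 19 := by
    have h1 := hts φ u
    have h2 := hts φ (upow u (-1 : ZMod 19))
    rw [sum_rows_regular H.mem H.ne H.K_center H.two_mul_e hψo hl₀ (Or.inl rfl) hψ' hreg,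
      unit_norm H.mem H.ne H.K_center H.two_mul_e, H.nineteen_e] at h1
    rw [sum_rows_regular H.mem H.ne H.K_center H.two_mul_e hψo hl₀ (Or.inl rfl) hψ' hreg,
      unit_cross H.mem H.ne H.K_center H.two_mul_e (by decide) hnc, H.nineteen_e,
      Finset.sum_congr rfl (g := fun χ : IrrCharacter G => (χ : G → ℂ) u *
        ((χ : G → ℂ) x / (χ : G → ℂ) 1 * conj ((χ : G → ℂ) u))) fun χ hχ => by
          obtain ⟨a, -, hv, -⟩ := flat_value H.mem H.ne H.K_center H.two_mul_e hχ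
          rw [hinv, hv, map_intCast]] at h2
    have h16 : (ψ : G → ℂ) 1 = 16 := by
      show ρ.character 1 = 16
      rw [Representation.char_one, Module.finrank_fin_fun]
      norm_num
    rw [h16, show (ψ : G → ℂ) x = ρ.character x from rfl] at h1 h2
    rw [h1, h2]
    push_cast
    ring
  have htri : 2 * (j : ℝ) / 16 * 19 ≤ rA + rB := by
    have h := (norm_sub_le _ _).trans (add_le_add (hbA φ) (hbB φ))
    rw [hdiff, norm_mul, norm_div, hjn] at h
    simpa using h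
  have hT : 19 * 2 * (j : ℤ) * 616 ≤
      16 * (2 * (616 + 8 * cX + 11 * cZ) + 364 * c0) := by
    have h : ((19 * 2 * (j : ℤ) * 616 : ℤ) : ℝ) ≤
        ((16 * (2 * (616 + 8 * cX + 11 * cZ) + 364 * c0) : ℤ) : ℝ) := by
      push_cast at heA heB ⊢
      linarith
    exact_mod_cast h
  set w : ℤ := (2 * (j : ℤ)) ^ 2 - 1 - 2 * cX - 2 * c0 with hw
  have hθx : θ x = (w : ℂ) := by
    have h := hθv x hreg
    rw [hjsq, hcX, hc0] at h
    rw [hw]
    push_cast
    push_cast at h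
    linear_combination -h
  have hbound : -57 ≤ w ∧ w ≤ 57 := by
    obtain ⟨n, σ, hσ⟩ := hθ
    have h := norm_char_le σ x
    rw [hσ, hθx, Complex.norm_intCast] at h
    have hn : (Module.finrank ℂ (Fin n → ℂ) : ℝ) = 57 := by
      have h1 := Representation.char_one σ
      rw [hσ, hθ1] at h1
      exact_mod_cast h1.symm
    rw [hn, abs_le] at h
    exact ⟨by exact_mod_cast h.1, by exact_mod_cast h.2⟩
  refine ⟨w, hθx, ?_⟩
  obtain ⟨i0, hi0, hi0'⟩ := exists_valAt g0 l0 r0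
  obtain ⟨iZ, hiZ, hiZ'⟩ := exists_valAt gZ lZ rZ
  have hfin := values_77 i0 (Finset.mem_range.2 (by push_cast at hi0'; omega)) iZ
    (Finset.mem_range.2 (by push_cast at hiZ'; omega))
  push_cast at hi0 hiZ
  simp only [valX, hi0, hiZ] at hfin
  rw [← hrel] at hfin
  exact hfin hc022 hE hA hB lX j (Finset.mem_range.2 (by omega)) hT hbound.2 hbound.1

/-- The prime is not 19. -/
theorem Lin16.not_nineteen : False := by
  classical
  obtain ⟨l₀, hl₀, hm, -⟩ := H.cases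
  have hψ := H.unit1 hm hl₀
  obtain ⟨t, X, Z, aX, aZ, ht, hset, htX, htZ, hXZ, hXu, hZu, hsign⟩ := H.block_one
  obtain ⟨χ₀, s, hs, hov, h₀, hy4, hyr, hne⟩ := H.unit_one_row
  have hXm : X ∈ flatSet (L := L) u 1 := by rw [hset]; simp
  have hZm : Z ∈ flatSet (L := L) u 1 := by rw [hset]; simp
  obtain ⟨-, hX18, hXr, hXne⟩ := H.flat_nontrivial ht hXm htX hXu
  obtain ⟨-, hZ18, hZr, hZne⟩ := H.flat_nontrivial ht hZm htZ hZu
  have hsum : ∀ f : IrrCharacter G → ℂ, ∑ χ ∈ flatSet (L := L) u 1, f χ = f t + (f X + f Z) :=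
    fun f => by
      rw [hset, Finset.sum_insert (by simp [htX, htZ]), Finset.sum_pair hXZ]
  set xX := Cfsg.charDegree (X : G → ℂ) with hxX
  set xZ := Cfsg.charDegree (Z : G → ℂ) with hxZ
  set y := Cfsg.charDegree (χ₀ : G → ℂ) with hy
  have hX1 : (X : G → ℂ) 1 = (xX : ℂ) := (Blocks.charDegree_cast X).symm
  have hZ1 : (Z : G → ℂ) 1 = (xZ : ℂ) := (Blocks.charDegree_cast Z).symm
  have hy1 : (χ₀ : G → ℂ) 1 = (y : ℂ) := (Blocks.charDegree_cast χ₀).symm
  have hrel1 : 1 + aX * xX + aZ * xZ + s * y = 0 := by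
    have h := relation H.mem H.ne H.K_center H.two_mul_e hov one_ne_zero hs h₀ (g := 1)
      (by rw [orderOf_one]; norm_num)
    rw [hsum, ht, hXu, hZu, hX1, hZ1, hy1] at h
    have h' : ((1 + aX * xX + aZ * xZ + s * y : ℤ) : ℂ) = ((0 : ℤ) : ℂ) := by
      push_cast
      linear_combination h
    exact_mod_cast h'
  obtain ⟨hF, hFo⟩ := H.normSq_char
  obtain ⟨m, v, V, R, θ, hm', hcc, hv, -, -, hθ, hθo, hθ1, hθv, hdeg⟩ :=
    decomp H.mem H.ne H.K_center H.two_mul_e hov one_ne_zero hs h₀ hF hFo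
  rw [H.nineteen_e] at hv
  have hψ1 : ρ.character 1 = 16 := by
    rw [Representation.char_one, Module.finrank_fin_fun]; norm_num
  have hmt : m t = 1 := by
    have h := classInner_isIrr_self (isIrrCharacter_character ρ)
    rw [Cfsg.classInner] at h
    have h' := hm' t
    rw [Cfsg.classInner, ht] at h'
    simp only [map_one, mul_one] at h'
    rw [h] at h'
    exact_mod_cast h'
  have htd : Cfsg.charDegree (t : G → ℂ) = 1 := by
    exact_mod_cast (Blocks.charDegree_cast t).trans (congrFun ht 1)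
  set A : ℤ := 1 + aX * m X + aZ * m Z with hA
  have hccA : ∀ l : ZMod 19, l ≠ 0 →
      cc u (fun g => ρ.character g * conj (ρ.character g)) l = ((A + s * v l : ℤ) : ℂ) := by
    intro l hl
    rw [hcc l hl, hsum, hmt, ht, hXu, hZu, hA]
    push_cast
    ring
  obtain ⟨hc3, hc2, hc48⟩ := H.cc_normSq hl₀ hψ
  have h6 : (6 : ZMod 19) * l₀ ≠ 0 := mul_ne_zero (by decide) hl₀
  rw [hccA l₀ hl₀] at hc3
  rw [hccA _ h6] at hc2
  rw [Finset.sum_congr rfl fun l hl => hccA l (Finset.ne_of_mem_erase hl), ← Int.cast_sum,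
    Finset.sum_add_distrib, Finset.sum_const, ← Finset.mul_sum,
    Finset.card_erase_of_mem (Finset.mem_univ _), Finset.card_univ, ZMod.card, ← Nat.cast_sum, hv]
    at hc48
  have e3 : A + s * v l₀ = 3 := by exact_mod_cast hc3
  have e2 : A + s * v (6 * l₀) = 2 := by exact_mod_cast hc2
  have e48 : 18 * A + s * (3 * (V : ℤ)) = 48 := by
    simp only [nsmul_eq_mul] at hc48
    norm_num at hc48
    exact_mod_cast hc48
  have e256 : 1 + (m X : ℤ) * xX + (m Z : ℤ) * xZ + V * y + R = 256 := by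
    have hns : ∑ χ ∈ flatSet (L := L) u 1, m χ * Cfsg.charDegree (χ : G → ℂ) =
        1 + (m X * xX + m Z * xZ) := by
      rw [hset, Finset.sum_insert (by simp [htX, htZ]), Finset.sum_pair hXZ, hmt, htd]
    rw [hns] at hdeg
    simp only [hψ1, map_ofNat] at hdeg
    have h : ((256 : ℕ) : ℂ) = ((1 + (m X * xX + m Z * xZ) + V * y + R : ℕ) : ℂ) := by
      rw [← hdeg]; norm_num
    rw [Nat.cast_inj] at h
    have h' := congrArg (Int.ofNat) h
    push_cast at h'
    linarith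
  obtain ⟨x, hxK, hx⟩ := H.exists_involution
  have hreg := H.regular_invol hx
  obtain ⟨c0, hc0, l0, g0, r0⟩ := H.involution_value hov hx
  obtain ⟨cX, hcX, lX, gX, rX⟩ := H.involution_value (mem_flatSet.1 hXm).1 hx
  obtain ⟨cZ, hcZ, lZ, gZ, rZ⟩ := H.involution_value (mem_flatSet.1 hZm).1 hx
  have hrelx : 1 + aX * cX + aZ * cZ + s * c0 = 0 := by
    have h := relation H.mem H.ne H.K_center H.two_mul_e hov one_ne_zero hs h₀ hreg
    rw [hsum, ht, hXu, hZu, hcX, hcZ, hc0] at h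
    have h' : ((1 + aX * cX + aZ * cZ + s * c0 : ℤ) : ℂ) = ((0 : ℤ) : ℂ) := by
      push_cast
      linear_combination h
    exact_mod_cast h'
  have hE : (1 : ℝ) + aX * ((cX : ℝ) ^ 2 / xX) + aZ * ((cZ : ℝ) ^ 2 / xZ) +
      s * ((c0 : ℝ) ^ 2 / y) = 0 := by
    have h := tsum_sq_eq H.mem H.ne H.K_center H.two_mul_e hov one_ne_zero hs h₀ hreg
    rw [H.tsum_sq_zero (by rw [H.nineteen_e]; decide) hx, hsum, ht, hXu, hZu, hcX, hcZ, hc0, hX1,
      hZ1, hy1] at h
    have h' : (((1 : ℝ) + aX * ((cX : ℝ) ^ 2 / xX) + aZ * ((cZ : ℝ) ^ 2 / xZ) +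
        s * ((c0 : ℝ) ^ 2 / y) : ℝ) : ℂ) = ((0 : ℝ) : ℂ) := by
      push_cast
      linear_combination -h
    exact_mod_cast h'
  have pX : (0 : ℝ) < xX := by exact_mod_cast (by omega : 0 < xX)
  have pZ : (0 : ℝ) < xZ := by exact_mod_cast (by omega : 0 < xZ)
  have py : (0 : ℝ) < y := by exact_mod_cast (by omega : 0 < y)
  have hend : (cX : ℝ) ≠ xX := fun he => hxK (H.ker_le hXne (by
    rw [hcX, hX1]; exact_mod_cast he))
  rcases hs with rfl | rfl <;> rcases hsign with ⟨rfl, rfl⟩ | ⟨rfl, rfl⟩ | ⟨rfl, rfl⟩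
  · omega
  · -- one negative summand
    refine hend (cauchy_rigid (b := (y : ℝ)) (cb := (c0 : ℝ)) pX py ?_).1
    have h1 : (cZ : ℝ) = 1 + cX + c0 := by exact_mod_cast (by omega : cZ = 1 + cX + c0)
    have h2 : (xZ : ℝ) = 1 + xX + y := by exact_mod_cast (by omega : xZ = 1 + xX + y)
    rw [← h1, ← h2]
    push_cast at hE
    linarith
  · exact arith_plus (xX := xX) (xZ := xZ) (y := y) (mX := m X) (mZ := m Z) (V := V) (by omega)
      (by omega) (by omega) (by omega) (by omega) (by omega) (by omega) (by omega) (by omega)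
  · -- one negative summand
    refine hend (cauchy_rigid (b := (xZ : ℝ)) (cb := (cZ : ℝ)) pX pZ ?_).1
    have h1 : (c0 : ℝ) = 1 + cX + cZ := by exact_mod_cast (by omega : c0 = 1 + cX + cZ)
    have h2 : (y : ℝ) = 1 + xX + xZ := by exact_mod_cast (by omega : (y : ℤ) = 1 + xX + xZ)
    rw [← h1, ← h2]
    push_cast at hE
    linarith
  · have hX58 : xX ≠ 58 := fun he => by
      obtain ⟨n, -, -, hn, hd⟩ := ClassPairs.exists_irr_degree X
      exact H.not_dvd_card (q := 29) (by norm_num) (by norm_num) (by norm_num)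
        ((show 29 ∣ n by rw [← hn, ← hxX, he]; norm_num).trans hd)
    have hy41 : y ≠ 41 := fun he => by
      obtain ⟨n, -, -, hn, hd⟩ := ClassPairs.exists_irr_degree χ₀
      exact H.not_dvd_card (q := 41) (by norm_num) (by norm_num) (by norm_num)
        ((show 41 ∣ n by rw [← hn, ← hy, he]).trans hd)
    obtain ⟨hy22, hcases⟩ := arith_minus (xX := xX) (xZ := xZ) (y := y) (mX := m X) (mZ := m Z)
      (V := V) (by omega) (by omega) (by omega) (by omega) (by omega) (by omega) (by omega)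
      (by omega) (by omega) (by omega) (by omega) (by omega)
    have hy22' : y = 22 := by exact_mod_cast hy22
    have hc022 : c0 ≠ 22 := fun he => hxK (H.ker_le hne (by
      rw [hc0, hy1, hy22', he]; norm_num))
    obtain ⟨i0, hi0, hi0'⟩ := exists_valAt g0 l0 r0
    obtain ⟨iZ, hiZ, hiZ'⟩ := exists_valAt gZ lZ rZ
    rcases hcases with ⟨h39, h18⟩ | ⟨h77, h56, hmX2, hmZ0, hV2⟩ | ⟨h96, h75⟩
    · have eX : xX = 39 := by omega
      have eZ : xZ = 18 := by omega
      rw [← hy, hy22'] at hi0 hi0'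
      rw [hy22'] at hE
      rw [eX] at hE
      rw [eZ] at hE
      rw [← hxZ, eZ] at hiZ hiZ'
      have hEz : 2574 + 66 * cX ^ 2 - 143 * cZ ^ 2 - 117 * c0 ^ 2 = 0 := by
        have h : ((2574 + 66 * cX ^ 2 - 143 * cZ ^ 2 - 117 * c0 ^ 2 : ℤ) : ℝ) = ((0 : ℤ) : ℝ) := by
          push_cast
          push_cast at hE
          field_simp at hE
          linarith
        exact_mod_cast h
      have hfin := no_values_39 i0 (Finset.mem_range.2 (by push_cast at hi0'; omega)) iZ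
        (Finset.mem_range.2 (by push_cast at hiZ'; omega))
      push_cast at hi0 hiZ
      simp only [valX, hi0, hiZ, show c0 + cZ - 1 = cX by omega] at hfin
      exact hfin hc022 (by omega) hEz
    · have eX : xX = 77 := by omega
      have eZ : xZ = 56 := by omega
      have hR : R = 57 := by
        rw [hy22, hmX2, hmZ0, hV2] at e256
        omega
      refine H.no_77 ht hset htX htZ hXZ (by rw [hXu]; norm_num) (by rw [hZu]; norm_num) hov h₀ hne
        (by rw [hX1, eX]; norm_num) (by rw [hZ1, eZ]; norm_num) (by rw [hy1, hy22']; norm_num)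
        hθ hθo (by rw [hθ1, hR]; norm_num) ?h'
      case h' =>
        intro g hg
        rw [hθv g hg, hsum, hmt, ht]
        have e1 : (m X : ℂ) = 2 := by exact_mod_cast hmX2
        have e2 : (m Z : ℂ) = 0 := by exact_mod_cast hmZ0
        have e3 : (V : ℂ) = 2 := by exact_mod_cast hV2
        rw [e1, e2, e3]
        push_cast
        ring
    · have eX : xX = 96 := by omega
      have eZ : xZ = 75 := by omega
      rw [← hy, hy22'] at hi0 hi0'
      rw [hy22'] at hE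
      rw [eX] at hE
      rw [eZ] at hE
      rw [← hxZ, eZ] at hiZ hiZ'
      have hEz : 26400 + 275 * cX ^ 2 - 352 * cZ ^ 2 - 1200 * c0 ^ 2 = 0 := by
        have h : ((26400 + 275 * cX ^ 2 - 352 * cZ ^ 2 - 1200 * c0 ^ 2 : ℤ) : ℝ) =
            ((0 : ℤ) : ℝ) := by
          push_cast
          push_cast at hE
          field_simp at hE
          linarith
        exact_mod_cast h
      have hfin := no_values_96 i0 (Finset.mem_range.2 (by push_cast at hi0'; omega)) iZ
        (Finset.mem_range.2 (by push_cast at hiZ'; omega))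
      push_cast at hi0 hiZ
      simp only [valX, hi0, hiZ, show c0 + cZ - 1 = cX by omega] at hfin
      exact hfin hc022 (by omega) hEz
  · omega

end

end CfsgLib.DegreeSixteen
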