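import Cfsg.Agent.DegreeSixteen.Core.ThirtyOne

/-!
# Operators normalizing a critical group for the prime 31

An operator centralizing an element of order 31 and an element of its normalizer acting with an
exponent of order 15 has at most two eigenvalues; if their ratio has order prime to 31 they are
equal.
-/

set_option autoImplicit false
set_option linter.style.haveILetI false
set_option linter.unusedSectionVars false

namespace CfsgLib.DegreeSixteen

open Cfsg CfsgLib.Characters CfsgLib.SmallDegreeP CfsgLib.DefectOne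
open scoped ComplexConjugate

local instance fact31N : Fact (Nat.Prime 31) := ⟨by norm_num⟩

theorem inverse31 : ∀ i j : ZMod 31, i * j = 1 → 3 * j ∉ sq31 → i ∈ sq31 := by decide +kernel

theorem powers31 : ∀ x ∈ sq31, ∃ k : Fin 15, (9 : ZMod 31) ^ (k : ℕ) = x := by decide +kernel

theorem three31 : ∀ c ∈ sq31, c * 3 ∉ sq31 := by decide +kernel

theorem cover31 : ∀ x : ZMod 31, x ≠ 0 → x ∈ sq31 ∨ ∃ c ∈ sq31, x = c * 3 := by decide +kernel

section

variable {p : ℕ} [Fact p.Prime] {G : Type} [Group G] {d : ℕ} {π : Representation ℂ G (Fin d → ℂ)}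
  {u : G}

theorem eigen_upow {l : ZMod p} {x : Fin d → ℂ}
    (hx : x ∈ Module.End.eigenspace (π u) (ZMod.stdAddChar l : ℂ)) (i : ZMod p) :
    π (upow u i) x = (ZMod.stdAddChar (i * l) : ℂ) • x := by
  have h : ∀ n : ℕ, π (u ^ n) x = (ZMod.stdAddChar l : ℂ) ^ n • x := by
    intro n
    induction n with
    | zero => rw [pow_zero, map_one, pow_zero, one_smul]; rfl
    | succ n ih =>
      rw [pow_succ, map_mul, Module.End.mul_apply, Module.End.mem_eigenspace_iff.1 hx, map_smul, ih,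
        smul_smul, pow_succ']
  rw [upow, h, std_pow]

/-- An operator carrying `u` to a power carries eigenspaces to eigenspaces. -/
theorem map_eigen (hup : u ^ p = 1) {A : Module.End ℂ (Fin d → ℂ)} {i j : ZMod p} (hij : i * j = 1)
    (hA : A * π u = π (upow u i) * A) {l : ZMod p} {x : Fin d → ℂ}
    (hx : x ∈ Module.End.eigenspace (π u) (ZMod.stdAddChar l : ℂ)) :
    A x ∈ Module.End.eigenspace (π u) (ZMod.stdAddChar (j * l) : ℂ) := by
  have h1 : π (upow u i) (A x) = (ZMod.stdAddChar l : ℂ) • A x := by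
    rw [← Module.End.mul_apply, ← hA, Module.End.mul_apply, Module.End.mem_eigenspace_iff.1 hx,
      map_smul]
  have h2 : ∀ n : ℕ, π (upow u i ^ n) (A x) = (ZMod.stdAddChar l : ℂ) ^ n • A x := by
    intro n
    induction n with
    | zero => rw [pow_zero, map_one, pow_zero, one_smul]; rfl
    | succ n ih => rw [pow_succ, map_mul, Module.End.mul_apply, h1, map_smul, ih, smul_smul, pow_succ']
  rw [Module.End.mem_eigenspace_iff, ← std_pow, ← h2, upow_pow u hup, ZMod.natCast_zmod_val, hij,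
    upow_one]

end

variable {G : Type} [Group G] [Fintype G]
variable {π : Representation ℂ G (Fin 16 → ℂ)} [π.IsIrreducible] {L : Local 31 G} {u : G}
  (H : Lin16 π L u)

include H

/-- The multiplicities. -/
theorem Lin16.mult31 : ∃ l₀ : ZMod 31, l₀ ≠ 0 ∧ mult π u (0 : ZMod 31) = 1 ∧
    (∀ c ∈ sq31, mult π u (c * l₀) = 0) ∧ (∀ c ∈ sq31, mult π u (c * 3 * l₀) = 1) := by
  obtain ⟨l₀, hl₀, hm, -⟩ := H.cases
  refine ⟨l₀, hl₀, (hm 0).2 fun ⟨a, _, he⟩ => hl₀ ((Units.mul_right_eq_zero (a : (ZMod 31)ˣ)).1 he.symm),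
    fun c hc => (hm _).1 (sameOrb_thirtyone H.pow H.thirtyone_e hl₀ hc), fun c hc => (hm _).2 fun h => ?_⟩
  have h' := mem_orbF.2 h
  rw [orbF_thirtyone H.pow H.thirtyone_e hl₀, Finset.mem_image] at h'
  obtain ⟨e, he, hee⟩ := h'
  have h3 := mul_right_cancel₀ hl₀ hee
  subst h3
  exact three31 c hc he

/-- The exponent of an operator normalizing the cyclic group. -/
theorem Lin16.exponent_mem {A : Module.End ℂ (Fin 16 → ℂ)} (hinj : Function.Injective A)
    {i : ZMod 31} (hi : i ≠ 0) (hA : A * π u = π (upow u i) * A) : i ∈ sq31 := by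
  obtain ⟨l₀, hl₀, -, h0, h1⟩ := H.mult31
  obtain ⟨j, hij⟩ : ∃ j, i * j = 1 := ⟨i⁻¹, mul_inv_cancel₀ hi⟩
  refine inverse31 i j hij fun hj => ?_
  have hd : Module.finrank ℂ (Module.End.eigenspace (π u) (ZMod.stdAddChar (3 * l₀) : ℂ)) = 1 := by
    have := h1 1 (by decide +kernel)
    rwa [one_mul] at this
  obtain ⟨⟨x, hx⟩, hx0, -⟩ := finrank_eq_one_iff'.1 hd
  have h := map_eigen (p := 31) H.pow hij hA hx
  rw [← mul_assoc, mul_comm j 3,
    Submodule.finrank_eq_zero.1 (h0 _ hj : Module.finrank ℂ (Module.End.eigenspace (π u)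
      (ZMod.stdAddChar (3 * j * l₀) : ℂ)) = 0), Submodule.mem_bot] at h
  exact hx0 (Subtype.ext (hinj (h.trans (map_zero A).symm)))

/-- An element acting with the exponent 7. -/
theorem Lin16.exists_seven : ∃ n : G, n * u * n⁻¹ = upow u (7 : ZMod 31) :=
  conj_thirtyone H.pow H.thirtyone_e (by decide +kernel)

/-- An operator commuting with `u` and with the element acting with exponent 7. -/
theorem Lin16.two_values {n : G} (hn : n * u * n⁻¹ = upow u (7 : ZMod 31))
    {A : Module.End ℂ (Fin 16 → ℂ)} (hAu : A * π u = π u * A) (hAn : A * π n = π n * A) :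
    ∃ (a b : ℂ) (l : ZMod 31) (x y z : Fin 16 → ℂ), l ≠ 0 ∧ x ≠ 0 ∧ y ≠ 0 ∧ z ≠ 0 ∧
      x ∈ Module.End.eigenspace (π u) (ZMod.stdAddChar (0 : ZMod 31) : ℂ) ∧
      y ∈ Module.End.eigenspace (π u) (ZMod.stdAddChar l : ℂ) ∧
      z ∈ Module.End.eigenspace (π u) (ZMod.stdAddChar (9 * l) : ℂ) ∧
      A x = a • x ∧ A y = b • y ∧ A z = b • z ∧
      A = b • (1 : Module.End ℂ (Fin 16 → ℂ)) +
        (a - b) • Matrix.toLinAlgEquiv' (proj (matRep π) u (0 : ZMod 31)) := by
  classical
  obtain ⟨l₀, hl₀, hm0, hm00, hm1⟩ := H.mult31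
  set E : ZMod 31 → Submodule ℂ (Fin 16 → ℂ) :=
    fun l => Module.End.eigenspace (π u) (ZMod.stdAddChar l : ℂ) with hE
  have hAE : ∀ l, ∀ x ∈ E l, A x ∈ E l := fun l x hx => by
    have h := map_eigen (p := 31) (A := A) H.pow (one_mul (1 : ZMod 31)) (by rw [upow_one]; exact hAu) hx
    rwa [one_mul] at h
  have hsc : ∀ l, ∃ c : ℂ, ∀ x ∈ E l, A x = c • x := by
    intro l
    by_cases hb : E l = ⊥
    · exact ⟨0, fun x hx => by rw [hb, Submodule.mem_bot] at hx; rw [hx]; simp⟩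
    have hd : Module.finrank ℂ (E l) = 1 := le_antisymm (H.mult_le_one l)
      (Nat.one_le_iff_ne_zero.2 fun h => hb (Submodule.finrank_eq_zero.1 h))
    obtain ⟨⟨v, hv⟩, hv0, hgen⟩ := finrank_eq_one_iff'.1 hd
    obtain ⟨c, hc⟩ := hgen ⟨A v, hAE l v hv⟩
    refine ⟨c, fun x hx => ?_⟩
    obtain ⟨e, he⟩ := hgen ⟨x, hx⟩
    have hc' : c • v = A v := congrArg Subtype.val hc
    have he' : e • v = x := congrArg Subtype.val he
    rw [← he', map_smul, ← hc', smul_comm]
  choose μ hμ using hsc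
  have hnE : ∀ l, ∀ x ∈ E l, π n x ∈ E (9 * l) := fun l x hx =>
    map_eigen (p := 31) (A := π n) H.pow (show (7 : ZMod 31) * 9 = 1 by decide)
      (by rw [← map_mul, ← map_mul, ← hn]; congr 1; group) hx
  set l₁ := 3 * l₀
  have hne : ∀ c ∈ sq31, ∃ y ∈ E (c * 3 * l₀), y ≠ 0 := fun c hc => by
    obtain ⟨⟨y, hy⟩, hy0, -⟩ := finrank_eq_one_iff'.1 (hm1 c hc)
    exact ⟨y, hy, fun e => hy0 (Subtype.ext e)⟩
  have hstep : ∀ (l : ZMod 31) (y : Fin 16 → ℂ), y ∈ E l → y ≠ 0 →
      μ (9 * l) = μ l := fun l y hy hy0 => by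
    have h1 : A (π n y) = μ l • π n y := by
      rw [← Module.End.mul_apply, hAn, Module.End.mul_apply, hμ l y hy, map_smul]
    rw [hμ _ _ (hnE l y hy)] at h1
    exact smul_left_injective ℂ (fun e => hy0 (injective_rep π n (e.trans (map_zero _).symm))) h1
  have hmem9 : ∀ k : ℕ, (9 : ZMod 31) ^ k ∈ sq31 := by
    intro k
    induction k with
    | zero => decide +kernel
    | succ k ih =>
      rw [pow_succ]
      revert ih
      generalize (9 : ZMod 31) ^ k = t
      revert t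
      decide +kernel
  have hconst : ∀ k : ℕ, μ ((9 : ZMod 31) ^ k * 3 * l₀) = μ (3 * l₀) := by
    intro k
    induction k with
    | zero => rw [pow_zero, one_mul]
    | succ k ih =>
      obtain ⟨y, hy, hy0⟩ := hne _ (hmem9 k)
      rw [← ih, ← hstep _ y hy hy0, pow_succ]
      congr 1
      ring
  obtain ⟨⟨x, hx⟩, hx0, -⟩ := finrank_eq_one_iff'.1 hm0
  obtain ⟨y, hy, hy0⟩ := hne 1 (by decide +kernel)
  rw [one_mul] at hy
  refine ⟨μ 0, μ (3 * l₀), 3 * l₀, x, y, π n y, mul_ne_zero (by decide) hl₀,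
    fun e => hx0 (Subtype.ext e), hy0,
    fun e => hy0 (injective_rep π n (e.trans (map_zero _).symm)), hx, hy, hnE _ y hy,
    hμ 0 x hx, hμ _ y hy, by rw [hμ _ _ (hnE _ y hy), hstep _ y hy hy0], ?_⟩
  refine LinearMap.ext fun v => ?_
  have hone : v = ∑ l : ZMod 31, Matrix.toLinAlgEquiv' (proj (matRep π) u l) v := by
    rw [← LinearMap.sum_apply, ← map_sum, sum_proj, map_one, Module.End.one_apply]
  rw [hone, map_sum, map_sum]
  refine Finset.sum_congr rfl fun l _ => ?_
  have hy := (isProj_proj π H.pow l).map_mem v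
  generalize Matrix.toLinAlgEquiv' (proj (matRep π) u l) v = w at hy ⊢
  simp only [LinearMap.add_apply, LinearMap.smul_apply, Module.End.one_apply]
  rw [hμ l w hy]
  by_cases hl : l = 0
  · subst hl
    rw [(isProj_proj π H.pow 0).map_id w hy, sub_smul]
    abel
  have h0 : Matrix.toLinAlgEquiv' (proj (matRep π) u (0 : ZMod 31)) w = 0 := by
    rw [← (isProj_proj π H.pow l).map_id w hy, ← Module.End.mul_apply, ← map_mul,
      proj_mul _ _ H.pow, if_neg (Ne.symm hl), map_zero, LinearMap.zero_apply]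
  rw [h0, smul_zero, add_zero]
  obtain ⟨c, hc⟩ : ∃ c, l = c * l₀ := ⟨l / l₀, (div_mul_cancel₀ l hl₀).symm⟩
  subst hc
  rcases cover31 c (fun e => hl (by rw [e, zero_mul])) with hc | ⟨e, he, rfl⟩
  · have hz : w ∈ (⊥ : Submodule ℂ (Fin 16 → ℂ)) := Submodule.finrank_eq_zero.1 (hm00 c hc) ▸ hy
    rw [(Submodule.mem_bot ℂ).1 hz]
    simp
  · obtain ⟨k, hk⟩ := powers31 e he
    rw [← hk, hconst]

/-- Two eigenvalues with ratio of order prime to 31 are equal. -/
theorem Lin16.eq_of_two_values {W : Type} [Group W] [Fintype W]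
    (R : W →* Module.End ℂ (Fin 16 → ℂ)) (ι : G →* W) (hι : ∀ g, R (ι g) = π g) {w : W} {a b : ℂ}
    (hw : R w = b • (1 : Module.End ℂ (Fin 16 → ℂ)) +
      (a - b) • Matrix.toLinAlgEquiv' (proj (matRep π) u (0 : ZMod 31)))
    (hb : b ^ Nat.card W = 1) {m : ℕ} (hm : ¬ 31 ∣ m) (hab : a ^ m = b ^ m) : a = b := by
  classical
  by_contra hne
  obtain ⟨S, Q, Q', σW, hSu, hSσ, hQQ', hQ'Q, hσ, -⟩ := exists_ctx π H.inj H.sq H.gen H.core_bot
    H.order ((LinearMap.toMatrixAlgEquiv' : _ ≃ₐ[ℂ] Matrix (Fin 16) (Fin 16) ℂ).toMonoidHom.comp R)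
    ι (fun g => by
      show LinearMap.toMatrixAlgEquiv' (R (ι g)) = _
      rw [hι])
  haveI := S.charP
  have hrep : ∀ g, S.rep g = Q' * matRep π g * Q := fun g => by
    rw [S.rep_apply, hSσ, MonoidHom.comp_apply, hσ]
    show Q' * LinearMap.toMatrixAlgEquiv' (R (ι g)) * Q = _
    rw [hι]
    rfl
  set P0 := proj (matRep π) u (0 : ZMod 31) with hP0
  set E0 : Matrix (Fin 16) (Fin 16) ℂ := Q' * P0 * Q with hE0
  have hb0 : b ≠ 0 := fun h => by
    rw [h, zero_pow Nat.card_pos.ne'] at hb; exact zero_ne_one hb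
  have hm0 : 0 < m := Nat.pos_of_ne_zero fun h => hm (h ▸ dvd_zero 31)
  set r := a / b with hr
  have hrm : r ^ m = 1 := by rw [hr, div_pow, hab, div_self (pow_ne_zero _ hb0)]
  have hr1 : r ≠ 1 := fun h => hne ((div_eq_one_iff_eq hb0).1 h)
  have hbi : b⁻¹ ∈ S.B := mem_of_pow_eq_one S.B Nat.card_pos.ne' (by rw [inv_pow, hb, inv_one])
  have hrB : r ∈ S.B := mem_of_pow_eq_one S.B hm0.ne' hrm
  set r' : S.B := ⟨r, hrB⟩
  have hrunit : IsUnit (r' - 1) := by
    by_contra hu'
    have h0 : IsLocalRing.residue S.B r' = 1 := by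
      rw [← sub_eq_zero, ← map_one (IsLocalRing.residue S.B), ← map_sub,
        IsLocalRing.residue_eq_zero_iff]
      exact hu'
    have hsum : ∑ i ∈ Finset.range m, r' ^ i = 0 := by
      refine (mul_eq_zero.1 (?_ : (r' - 1) * _ = 0)).resolve_left fun h => hr1
        (congrArg Subtype.val (sub_eq_zero.1 h))
      rw [mul_geom_sum, sub_eq_zero]
      exact Subtype.ext hrm
    have h1 := congrArg (IsLocalRing.residue S.B) hsum
    simp only [map_sum, map_pow, h0, one_pow, map_zero, Finset.sum_const, Finset.card_range,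
      nsmul_eq_mul, mul_one] at h1
    exact hm ((CharP.cast_eq_zero_iff (IsLocalRing.ResidueField S.B) 31 _).1 h1)
  obtain ⟨t, ht⟩ := hrunit.exists_right_inv
  have ht' : (r - 1) * (t : ℂ) = 1 := congrArg Subtype.val ht
  set E : Matrix (Fin 16) (Fin 16) S.B := t • ((⟨b⁻¹, hbi⟩ : S.B) • σW w - 1) with hEdef
  have hEi : inclMat S.B E = E0 := by
    rw [hEdef, inclMat_smul, map_sub, inclMat_smul, map_one, hσ]
    show (t : ℂ) • (b⁻¹ • (Q' * LinearMap.toMatrixAlgEquiv' (R w) * Q) - 1) = E0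
    rw [hw, map_add, map_smul, map_smul, map_one,
      LinearMap.toMatrixAlgEquiv'_toLinAlgEquiv', mul_add, add_mul, mul_smul_comm, smul_mul_assoc,
      mul_one, hQ'Q, mul_smul_comm, smul_mul_assoc, ← hE0, smul_add, smul_smul, smul_smul,
      inv_mul_cancel₀ hb0, one_smul, add_sub_cancel_left, smul_smul,
      show (t : ℂ) * (b⁻¹ * (a - b)) = 1 by
        rw [← ht', hr]; field_simp, one_smul]
  have hconjQ : ∀ M N : Matrix (Fin 16) (Fin 16) ℂ,
      Q' * M * Q * (Q' * N * Q) = Q' * (M * N) * Q := fun M N => by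
    calc Q' * M * Q * (Q' * N * Q) = Q' * M * (Q * Q') * (N * Q) := by simp only [mul_assoc]
      _ = Q' * (M * N) * Q := by rw [hQQ', mul_one]; simp only [mul_assoc]
  have hE : IsIdempotentElem E := inclMat_injective S.B (by
    rw [map_mul, hEi, hE0, hconjQ, proj_mul _ _ H.pow, if_pos rfl])
  have hfix : ∀ h ∈ S.N, S.σ h * E = E * S.σ h := by
    intro h hh
    obtain ⟨c, hc⟩ := (S.mem_N h).1 hh
    rw [hSu] at hc
    have h1 := conj_proj (matRep π) u H.pow hc (0 : ZMod 31)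
    rw [mul_zero, ← hP0] at h1
    have h2 : matRep π h * P0 = P0 * matRep π h := by
      conv_rhs => rw [← h1]
      rw [mul_assoc (_ * _), ← map_mul, inv_mul_cancel, map_one, mul_one]
    apply inclMat_injective S.B
    rw [map_mul, map_mul, ← Ctx.rep_apply, hEi, hrep, hE0, hconjQ, hconjQ, h2]
  obtain ⟨l₀, hl₀, hm0', hm00, -⟩ := H.mult31
  have hmem : ∀ l : ZMod 31, (ZMod.stdAddChar l : ℂ) ∈ S.B := fun l =>
    mem_of_pow_eq_one S.B (by norm_num : (31 : ℕ) ≠ 0) (by
      rw [← AddChar.map_nsmul_eq_pow, nsmul_eq_mul, ZMod.natCast_self, zero_mul,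
        AddChar.map_zero_eq_one])
  have hres : ∀ l : ZMod 31, IsLocalRing.residue S.B ⟨_, hmem l⟩ = 1 := by
    intro l
    refine eq_one_of_pow_p (p := 31) ?_
    rw [← map_pow, ← map_one (IsLocalRing.residue S.B)]
    congr 1
    refine Subtype.ext ?_
    show (ZMod.stdAddChar l : ℂ) ^ 31 = 1
    rw [← AddChar.map_nsmul_eq_pow, nsmul_eq_mul, ZMod.natCast_self, zero_mul,
      AddChar.map_zero_eq_one]
  have hmul : ∀ l m : ZMod 31, inclMat S.B (S.σ S.u - (⟨_, hmem l⟩ : S.B) • 1) *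
      (Q' * proj (matRep π) u m * Q) =
        ((ZMod.stdAddChar m : ℂ) - ZMod.stdAddChar l) • (Q' * proj (matRep π) u m * Q) := by
    intro l m
    have h := rho_mul_proj (matRep π) u H.pow 1 m
    rw [upow_one, one_mul] at h
    rw [map_sub, inclMat_smul, map_one, ← Ctx.rep_apply, hSu, hrep, sub_mul, hconjQ, h,
      mul_smul_comm, smul_mul_assoc, smul_mul_assoc, one_mul, sub_smul]
  have key : ∀ s : Finset (ZMod 31), ∃ Z : Matrix (Fin 16) (Fin 16) S.B,
      (∀ m ∈ s, inclMat S.B Z * (Q' * proj (matRep π) u m * Q) = 0) ∧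
        redMat S.B Z = (S.red S.u - 1) ^ s.card := by
    intro s
    induction s using Finset.induction with
    | empty => exact ⟨1, by simp, by simp⟩
    | insert c s hc ih =>
      obtain ⟨Z, hZ, hZr⟩ := ih
      refine ⟨Z * (S.σ S.u - (⟨_, hmem c⟩ : S.B) • 1), fun m hm => ?_, ?_⟩
      · rw [map_mul, mul_assoc, hmul, mul_smul_comm]
        rcases Finset.mem_insert.1 hm with rfl | hm
        · rw [sub_self, zero_smul]
        · rw [hZ m hm, smul_zero]
      · rw [map_mul, map_sub, redMat_smul, hres, one_smul, map_one, hZr, ← Ctx.red_apply,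
          Finset.card_insert_of_notMem hc, pow_succ]
  obtain ⟨Z, hZ, hZr⟩ := key (sq31.image fun c => c * 3 * l₀)
  have hker : Z * (1 - E) = 0 := inclMat_injective S.B (by
    rw [map_zero, map_mul, map_sub, map_one, hEi, hE0, ← hQ'Q,
      show Q' * Q - Q' * P0 * Q = Q' * (1 - P0) * Q by rw [mul_sub, sub_mul, mul_one],
      ← sum_proj (p := 31) (matRep π) u, ← Finset.sum_erase_eq_sub (Finset.mem_univ (0 : ZMod 31)),
      Finset.mul_sum, Finset.sum_mul, Finset.mul_sum]
    refine Finset.sum_eq_zero fun l hl => ?_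
    obtain ⟨c, hc⟩ : ∃ c, l = c * l₀ := ⟨l / l₀, (div_mul_cancel₀ l hl₀).symm⟩
    subst hc
    rcases cover31 c (fun e => Finset.ne_of_mem_erase hl (by rw [e, zero_mul])) with hc | ⟨e, he, rfl⟩
    · rw [proj_eq_zero_of_mult π H.pow (hm00 c hc), mul_zero, zero_mul, mul_zero]
    · exact hZ _ (Finset.mem_image.2 ⟨e, he, rfl⟩))
  have hfixE : (S.σ S.u - 1) * E = 0 := inclMat_injective S.B (by
    have h := hmul 0 0
    rw [sub_self, zero_smul, ← hP0, ← hE0] at h
    rw [map_zero, ← h, map_mul, hEi]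
    congr 1
    simp [map_sub, inclMat_smul])
  have hcard : (sq31.image fun c => c * 3 * l₀).card = 15 := by
    rw [Finset.card_image_of_injective _ fun c e h => mul_right_cancel₀ (by decide : (3 : ZMod 31) ≠ 0)
      (mul_right_cancel₀ hl₀ h)]
    decide +kernel
  rw [hcard] at hZr
  have hnil : (S.red S.u - 1) ^ 15 = 0 := by
    have h1 : (S.red S.u - 1) ^ 15 * redMat S.B (1 - E) = 0 := by
      rw [← hZr, ← map_mul, hker, map_zero]
    have h2 : (S.red S.u - 1) ^ 15 * redMat S.B E = 0 := by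
      have h := congrArg (redMat S.B) hfixE
      rw [map_mul, map_sub, map_one, ← Ctx.red_apply, map_zero] at h
      rw [pow_succ, mul_assoc, h, mul_zero]
    rw [map_sub, map_one, mul_sub, mul_one, h2, sub_zero] at h1
    exact h1
  rcases S.idem_trivial hnil (by norm_num) E hE hfix with h | h
  · have h1 : E0 = 0 := by rw [← hEi, h, map_zero]
    have h2 : P0 = 0 := by
      calc P0 = (Q * Q') * P0 * (Q * Q') := by rw [hQQ', one_mul, mul_one]
        _ = Q * E0 * Q' := by rw [hE0]; simp only [mul_assoc]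
        _ = 0 := by rw [h1, mul_zero, zero_mul]
    have := mult_eq_zero_of_proj π H.pow h2
    omega
  · have h1 : E0 = 1 := by rw [← hEi, h, map_one]
    have h2 : P0 = 1 := by
      calc P0 = (Q * Q') * P0 * (Q * Q') := by rw [hQQ', one_mul, mul_one]
        _ = Q * E0 * Q' := by rw [hE0]; simp only [mul_assoc]
        _ = 1 := by rw [h1, mul_one, hQQ']
    have h3 := trace_proj_eq π H.pow (0 : ZMod 31)
    rw [← hP0, h2, Matrix.trace_one, hm0', Fintype.card_fin] at h3
    norm_num at h3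

end CfsgLib.DegreeSixteen
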