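import Cfsg.Agent.DegreeSixteen.Core.Rows
import Cfsg.Agent.ClassPairs.Basic

/-!
# Column sums and pairs of conjugates over a central character
-/

set_option autoImplicit false
set_option linter.style.haveILetI false
set_option linter.unusedSectionVars false

namespace CfsgLib.DegreeSixteen

open Cfsg CfsgLib.Characters CfsgLib.SmallDegreeP CfsgLib.DefectOne
open scoped ComplexConjugate

universe u

variable {p : ℕ} [hp : Fact p.Prime] {G : Type u} [Group G] [Fintype G] {L : Local p G}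

open Classical in
/-- The irreducible characters over `φ`. -/
noncomputable def overSet (φ : L.K →* ℂˣ) : Finset (IrrCharacter G) :=
  Finset.univ.filter fun χ => Over L φ (χ : G → ℂ)

theorem mem_overSet {φ : L.K →* ℂˣ} {χ : IrrCharacter G} :
    χ ∈ overSet φ ↔ Over L φ (χ : G → ℂ) := by simp [overSet]

open Classical in
/-- Twisting a sum over all characters by `φ`. -/
theorem sum_twist_over [Fintype L.K] (hKc : L.K = Subgroup.center G) (φ : L.K →* ℂˣ)
    (A : IrrCharacter G → ℂ) (w : G) :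
    ∑ k : L.K, (φ k : ℂ) * ∑ χ : IrrCharacter G, A χ * conj ((χ : G → ℂ) (w * k)) =
      (Nat.card L.K : ℂ) * ∑ χ ∈ overSet φ, A χ * conj ((χ : G → ℂ) w) := by
  choose ψ hψ using fun χ : IrrCharacter G => exists_over hKc χ
  simp only [Finset.mul_sum]
  rw [Finset.sum_comm, overSet, Finset.sum_filter]
  refine Finset.sum_congr rfl fun χ _ => ?_
  rw [Finset.sum_congr rfl (g := fun k : L.K => A χ * conj ((χ : G → ℂ) w) *
      ((φ k : ℂ) * conj (ψ χ k : ℂ))) fun k _ => by rw [hψ χ, map_mul]; ring,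
    ← Finset.mul_sum, sum_K_orth]
  by_cases h : φ = ψ χ
  · rw [if_pos h, if_pos (h.symm ▸ hψ χ)]; ring
  · rw [if_neg h, if_neg fun e => h (over_unique χ e (hψ χ)), mul_zero]

variable {u : G} (hu : u ∈ (L.P : Subgroup G)) (hu1 : u ≠ 1) (hKc : L.K = Subgroup.center G)

include hu hu1

theorem eq_one_of_isConj {w : G} (hw : w ∈ (L.P : Subgroup G)) {k : L.K}
    (h : IsConj u (w * k)) : k = 1 := by
  obtain ⟨c, hc⟩ := isConj_iff.1 h
  have h1 : (w * k) ^ p = 1 := by rw [← hc, conj_pow, L.pow_p hu, mul_one, mul_inv_cancel]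
  rw [(L.commute hw k.2).mul_pow, L.pow_p hw, one_mul] at h1
  refine Subtype.ext (orderOf_eq_one_iff.1 ?_)
  rcases (Nat.dvd_prime hp.out).1 (orderOf_dvd_of_pow_eq_one h1) with h2 | h2
  · exact h2
  · exact absurd h2.symm.dvd (L.not_dvd_orderOf k.2)

include hKc

open Classical in
/-- Column orthogonality over `φ`. -/
theorem orth (φ : L.K →* ℂˣ) {w : G} (hw : w ∈ (L.P : Subgroup G)) :
    ∑ χ ∈ overSet φ, (χ : G → ℂ) u * conj ((χ : G → ℂ) w) =
      if IsConj u w then (p : ℂ) else 0 := by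
  haveI := Fintype.ofFinite L.K
  have h := sum_twist_over hKc φ (fun χ => (χ : G → ℂ) u) w
  rw [Finset.sum_eq_single (1 : L.K) (fun k _ hk => by
    rw [sum_irr_mul_conj_of_not_isConj (fun e => hk (eq_one_of_isConj hu hu1 hw e)), mul_zero])
    (by simp), map_one, Units.val_one, one_mul, OneMemClass.coe_one, mul_one] at h
  refine mul_left_cancel₀ (Nat.cast_ne_zero.2 Nat.card_pos.ne' : (Nat.card L.K : ℂ) ≠ 0) (h.symm.trans ?_)
  split_ifs with hc
  · rw [sum_irr_mul_conj_of_isConj hc, L.centralizer_singleton hu hu1, L.card_centralizer,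
      Nat.cast_mul, mul_comm]
  · rw [sum_irr_mul_conj_of_not_isConj hc, mul_zero]

/-- The normalised numbers of pairs. -/
noncomputable def tsum (x y w : G) (φ : L.K →* ℂˣ) : ℂ :=
  ∑ χ ∈ overSet φ, (χ : G → ℂ) x * (χ : G → ℂ) y / (χ : G → ℂ) 1 * conj ((χ : G → ℂ) w)

omit hu hu1 in
/-- The pairs over every central character are bounded by those over the trivial one. -/
theorem tsum_bound (x y w : G) :
    ∃ r : ℝ, 0 ≤ r ∧ tsum (L := L) x y w 1 = r ∧
      (∀ φ : L.K →* ℂˣ, ‖tsum (L := L) x y w φ‖ ≤ r) ∧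
      ((∀ a b : G, ∀ k : L.K, a * x * a⁻¹ * (b * y * b⁻¹) ≠ w * k) → r = 0) ∧
      ((∃ a b : G, ∃ k : L.K, a * x * a⁻¹ * (b * y * b⁻¹) = w * k) → 0 < r) := by
  classical
  haveI := Fintype.ofFinite L.K
  obtain ⟨N, hN⟩ : ∃ N : L.K → ℕ, ∀ k : L.K, N k =
      (Finset.univ.filter fun q : G × G => q.1 * x * q.1⁻¹ * (q.2 * y * q.2⁻¹) = w * k).card :=
    ⟨_, fun _ => rfl⟩
  have hpairs : ∀ k : L.K, (N k : ℂ) = (Nat.card G : ℂ) * ∑ χ : IrrCharacter G,
      (χ : G → ℂ) x * (χ : G → ℂ) y / (χ : G → ℂ) 1 * conj ((χ : G → ℂ) (w * k)) := by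
    intro k
    have h := ClassPairs.card_pairs x y {w * (k : G)}
    simp only [Finset.mem_singleton, Finset.sum_singleton] at h
    rw [Finset.sum_congr rfl (g := fun χ : IrrCharacter G => conj ((χ : G → ℂ) (w * k)) *
        ((χ : G → ℂ) x * (χ : G → ℂ) y / (χ : G → ℂ) 1)) fun χ _ => mul_comm _ _, ← h, hN,
      Finset.card_filter, Nat.cast_sum, Fintype.sum_prod_type]
    simp only [Nat.cast_ite, Nat.cast_one, Nat.cast_zero]
  have hval : ∀ φ : L.K →* ℂˣ, tsum (L := L) x y w φ =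
      (∑ k : L.K, (φ k : ℂ) * N k) / ((Nat.card G * Nat.card L.K : ℕ) : ℂ) := by
    intro φ
    have hG : (Nat.card G : ℂ) ≠ 0 := Nat.cast_ne_zero.2 Nat.card_pos.ne'
    have hK : (Nat.card L.K : ℂ) ≠ 0 := Nat.cast_ne_zero.2 Nat.card_pos.ne'
    rw [eq_div_iff (by rw [Nat.cast_mul]; exact mul_ne_zero hG hK),
      Finset.sum_congr rfl fun k _ => by rw [hpairs k, mul_left_comm], ← Finset.mul_sum,
      sum_twist_over hKc, tsum, Nat.cast_mul]
    ring
  have hpos : (0 : ℝ) < ((Nat.card G * Nat.card L.K : ℕ) : ℝ) :=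
    Nat.cast_pos.2 (Nat.mul_pos Nat.card_pos Nat.card_pos)
  refine ⟨(∑ k, (N k : ℝ)) / ((Nat.card G * Nat.card L.K : ℕ) : ℝ), by positivity, ?_, fun φ => ?_,
    fun h => ?_, fun h => ?_⟩
  · rw [hval]
    simp only [MonoidHom.one_apply, Units.val_one, one_mul]
    push_cast
    rfl
  · rw [hval, norm_div, Complex.norm_natCast]
    refine div_le_div_of_nonneg_right ((norm_sum_le _ _).trans (Finset.sum_le_sum fun k _ => ?_))
      hpos.le
    rw [norm_mul, Complex.norm_natCast]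
    refine mul_le_of_le_one_left (Nat.cast_nonneg _) (le_of_eq ?_)
    exact Complex.norm_eq_one_of_pow_eq_one (by
      rw [← Units.val_pow_eq_pow_val, ← map_pow, pow_card_eq_one', map_one, Units.val_one])
      Nat.card_pos.ne'
  · rw [Finset.sum_eq_zero, zero_div]
    intro k _
    rw [Nat.cast_eq_zero, hN, Finset.card_eq_zero, Finset.filter_eq_empty_iff]
    exact fun q _ => h q.1 q.2 k
  · obtain ⟨a, b, k, hk⟩ := h
    refine div_pos (Finset.sum_pos' (fun _ _ => Nat.cast_nonneg _) ⟨k, Finset.mem_univ _, ?_⟩) hpos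
    rw [Nat.cast_pos, hN, Finset.card_pos]
    exact ⟨(a, b), Finset.mem_filter.2 ⟨Finset.mem_univ _, hk⟩⟩

omit hu hu1 in
/-- The constituents of a character over `φ` lie over `φ`. -/
theorem over_of_constituent {φ : L.K →* ℂˣ} {F : G → ℂ} (hF : Over L φ F) {χ : IrrCharacter G}
    (h : Cfsg.classInner F (χ : G → ℂ) ≠ 0) : Over L φ (χ : G → ℂ) := by
  haveI := Fintype.ofFinite L.K
  obtain ⟨ψ, hψ⟩ := exists_over hKc χ
  suffices φ = ψ by subst this; exact hψ
  refine MonoidHom.ext fun k => Units.ext ?_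
  have h1 : Cfsg.classInner F (χ : G → ℂ) =
      (φ k : ℂ) * conj (ψ k : ℂ) * Cfsg.classInner F (χ : G → ℂ) := by
    rw [Cfsg.classInner, mul_left_comm ((φ k : ℂ) * conj (ψ k : ℂ)), Finset.mul_sum (a := _ * conj _)]
    congr 1
    refine Fintype.sum_equiv (Equiv.mulRight (k : G)⁻¹) _ _ fun g => ?_
    conv_lhs => rw [← inv_mul_cancel_right g (k : G), hF, hψ, map_mul]
    show _ = (φ k : ℂ) * conj (ψ k : ℂ) * (F (g * (k : G)⁻¹) * conj ((χ : G → ℂ) (g * (k : G)⁻¹)))
    ring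
  have h2 : (φ k : ℂ) * conj (ψ k : ℂ) = 1 :=
    mul_right_cancel₀ h (h1.symm.trans (one_mul _).symm)
  have h3 : ‖(ψ k : ℂ)‖ = 1 := Complex.norm_eq_one_of_pow_eq_one (by
      rw [← Units.val_pow_eq_pow_val, ← map_pow, pow_card_eq_one', map_one, Units.val_one])
      Nat.card_pos.ne'
  calc (φ k : ℂ) = (φ k : ℂ) * (conj (ψ k : ℂ) * (ψ k : ℂ)) := by
        rw [Complex.conj_mul', h3]; simp
    _ = (ψ k : ℂ) := by rw [← mul_assoc, h2, one_mul]

omit hu hu1 hKc in
/-- The trivial character. -/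
theorem exists_triv (u : G) :
    ∃ t : IrrCharacter G, (t : G → ℂ) = (fun _ => 1) ∧ Over L 1 (t : G → ℂ) ∧
      Flat (p := p) u (t : G → ℂ) 1 := by
  refine ⟨⟨fun _ => 1, isIrr_one⟩, rfl, fun g k => by simp, fun l hl => ?_⟩
  rw [cc_of_sum u ({0} : Finset (ZMod p)) (fun _ => (1 : ℂ)) id _ (fun i _ => by simp) l]
  simp [eq_comm, hl]

end CfsgLib.DegreeSixteen
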