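import Cfsg.Agent.DegreeSixteen.Core.Block

/-!
# Values, degrees, the relation and the number of the rows
-/

set_option autoImplicit false
set_option linter.style.haveILetI false
set_option linter.unusedSectionVars false

namespace CfsgLib.DegreeSixteen

open Cfsg CfsgLib.Characters CfsgLib.SmallDegreeP CfsgLib.DefectOne
open scoped ComplexConjugate

universe u

variable {p : ℕ} [hp : Fact p.Prime] {G : Type u} [Group G] [Fintype G] {L : Local p G} {u : G}

open Classical in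
/-- The orbit of an exponent. -/
noncomputable def orbF (u : G) (hup : u ^ p = 1) (l₁ : ZMod p) : Finset (ZMod p) :=
  Finset.univ.filter fun l => SameOrb u hup l₁ l

theorem mem_orbF {hup : u ^ p = 1} {l₁ l : ZMod p} : l ∈ orbF u hup l₁ ↔ SameOrb u hup l₁ l := by
  simp [orbF]

theorem zero_notMem_orbF {hup : u ^ p = 1} {l₁ : ZMod p} (hl₁ : l₁ ≠ 0) :
    (0 : ZMod p) ∉ orbF u hup l₁ := fun h => by
  obtain ⟨a, -, ha⟩ := mem_orbF.1 h
  exact hl₁ ((Units.mul_right_eq_zero (a : (ZMod p)ˣ)).1 ha.symm)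

theorem card_orbF {hup : u ^ p = 1} {l₁ : ZMod p} (hl₁ : l₁ ≠ 0) :
    (orbF u hup l₁).card = Nat.card (auts u hup) := by
  classical
  haveI := Fintype.ofFinite (auts u hup)
  have h : orbF u hup l₁ = Finset.univ.image fun a : auts u hup => ((a : (ZMod p)ˣ) : ZMod p) * l₁ := by
    ext l
    simp [mem_orbF, SameOrb, eq_comm]
  rw [h, Finset.card_image_of_injective _ fun a b e =>
    Subtype.ext (Units.ext (mul_right_cancel₀ hl₁ e)), Finset.card_univ, Nat.card_eq_fintype_card]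

open Classical in
/-- The characters over `φ` with constant nonzero coefficients. -/
noncomputable def flatSet (u : G) (φ : L.K →* ℂˣ) : Finset (IrrCharacter G) :=
  Finset.univ.filter fun χ => Over L φ (χ : G → ℂ) ∧ ∃ a : ℤ, a ≠ 0 ∧ Flat (p := p) u (χ : G → ℂ) a

theorem mem_flatSet {φ : L.K →* ℂˣ} {χ : IrrCharacter G} : χ ∈ flatSet u φ ↔
    Over L φ (χ : G → ℂ) ∧ ∃ a : ℤ, a ≠ 0 ∧ Flat (p := p) u (χ : G → ℂ) a := by
  simp [flatSet]

theorem value_flat {F : G → ℂ} {a : ℤ} (h : Flat (p := p) u F a) {i : ZMod p} (hi : i ≠ 0) :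
    F (upow u i) = a := by
  rw [value_cc u F hi, ← Finset.add_sum_erase _ _ (Finset.mem_univ (0 : ZMod p)), cc_zero, zero_mul,
    zero_add, Finset.sum_congr rfl (g := fun l => (a : ℂ) * ZMod.stdAddChar (l * i)) fun l hl => by
      rw [h l (Finset.ne_of_mem_erase hl), mul_comm l i], ← Finset.mul_sum]
  have h1 := Finset.add_sum_erase _ (fun l : ZMod p => (ZMod.stdAddChar (l * i) : ℂ))
    (Finset.mem_univ (0 : ZMod p))
  rw [sum_std, if_neg hi, zero_mul, AddChar.map_zero_eq_one] at h1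
  rw [eq_neg_of_add_eq_zero_right h1]
  ring

theorem value_flat_one {F : G → ℂ} {a : ℤ} (h : Flat (p := p) u F a) : F u = a := by
  have := value_flat h (i := 1) one_ne_zero
  rwa [upow_one] at this

theorem value_unit1 {hup : u ^ p = 1} {F : G → ℂ} {l₁ : ZMod p} {s : ℤ} (hl₁ : l₁ ≠ 0)
    (h : Unit1 u hup F l₁ s) {i : ZMod p} (hi : i ≠ 0) :
    F (upow u i) = -(s : ℂ) * ∑ l ∈ orbF u hup l₁, (ZMod.stdAddChar (i * l) : ℂ) := by
  classical
  rw [value_cc u F hi, neg_mul, Finset.mul_sum]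
  congr 1
  refine (Finset.sum_subset (Finset.subset_univ _) fun l _ hl => ?_).symm.trans
    (Finset.sum_congr rfl fun l hl => ?_)
  · by_cases hl0 : l = 0
    · subst hl0; rw [cc_zero, zero_mul]
    · rw [(h l hl0).2 (fun e => hl (mem_orbF.2 e)), zero_mul]
  · rw [(h l fun e => zero_notMem_orbF hl₁ (e ▸ hl)).1 (mem_orbF.1 hl)]

variable (hu : u ∈ (L.P : Subgroup G)) (hu1 : u ≠ 1)

include hu hu1

theorem sum_P_eq (χ : IrrCharacter G) :
    ∃ m : ℕ, (χ : G → ℂ) 1 + ∑ l : ZMod p, cc u (χ : G → ℂ) l = (p : ℂ) * m := by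
  classical
  haveI := Fintype.ofFinite (L.P : Subgroup G)
  obtain ⟨m, hm⟩ := classInner_character_irr
    (isCharacter_restrict (L.P : Subgroup G) (isCharacter_of_isIrr χ.2))
    (isIrr_one (G := (L.P : Subgroup G)))
  obtain ⟨e, he⟩ := exists_equivP hu hu1
  refine ⟨m, ?_⟩
  simp only [Cfsg.classInner, map_one, mul_one, L.card_P] at hm
  rw [← e.sum_comp, inv_mul_eq_iff_eq_mul₀ (Nat.cast_ne_zero.2 hp.out.ne_zero)] at hm
  simp only [he] at hm
  rw [← hm, sum_cc, ← Finset.add_sum_erase _ _ (Finset.mem_univ (0 : ZMod p)), upow_zero]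

theorem deg_flat {χ : IrrCharacter G} {a : ℤ} (h : Flat (p := p) u (χ : G → ℂ) a) :
    ∃ m : ℕ, (Cfsg.charDegree (χ : G → ℂ) : ℤ) + ((p : ℤ) - 1) * a = (p : ℤ) * m := by
  obtain ⟨m, hm⟩ := sum_P_eq hu hu1 χ
  refine ⟨m, ?_⟩
  rw [← Finset.add_sum_erase _ _ (Finset.mem_univ (0 : ZMod p)), cc_zero, zero_add,
    Finset.sum_congr rfl fun l hl => h l (Finset.ne_of_mem_erase hl), Finset.sum_const,
    Finset.card_erase_of_mem (Finset.mem_univ _), Finset.card_univ, ZMod.card, nsmul_eq_mul,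
    ← Blocks.charDegree_cast χ, Nat.cast_sub hp.out.one_lt.le] at hm
  exact_mod_cast hm

theorem deg_unit1 {χ : IrrCharacter G} {l₁ : ZMod p} {s : ℤ} (hl₁ : l₁ ≠ 0)
    (h : Unit1 u (L.pow_p hu) (χ : G → ℂ) l₁ s) :
    ∃ m : ℕ, (Cfsg.charDegree (χ : G → ℂ) : ℤ) + (Nat.card (auts u (L.pow_p hu)) : ℤ) * s =
      (p : ℤ) * m := by
  classical
  obtain ⟨m, hm⟩ := sum_P_eq hu hu1 χ
  refine ⟨m, ?_⟩
  rw [← Finset.sum_subset (Finset.subset_univ (orbF u (L.pow_p hu) l₁)) (fun l _ hl => by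
      by_cases hl0 : l = 0
      · subst hl0; exact cc_zero _ _
      · exact (h l hl0).2 fun e => hl (mem_orbF.2 e)),
    Finset.sum_congr rfl fun l hl =>
      (h l fun e => zero_notMem_orbF hl₁ (e ▸ hl)).1 (mem_orbF.1 hl),
    Finset.sum_const, card_orbF hl₁, nsmul_eq_mul, ← Blocks.charDegree_cast χ] at hm
  exact_mod_cast hm

variable (hKc : L.K = Subgroup.center G) (ht : 2 * Nat.card (auts u (L.pow_p hu)) ≤ p - 1)
  {φ : L.K →* ℂˣ}

include ht

/-- An exponent off the orbit. -/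
theorem exists_off {l₁ : ZMod p} (hl₁ : l₁ ≠ 0) :
    ∃ l : ZMod p, l ≠ 0 ∧ ¬ SameOrb u (L.pow_p hu) l₁ l := by
  by_contra hcon
  push Not at hcon
  have h : Finset.univ.erase (0 : ZMod p) ⊆ orbF u (L.pow_p hu) l₁ := fun l hl =>
    mem_orbF.2 (hcon l (Finset.ne_of_mem_erase hl))
  have h1 := Finset.card_le_card h
  rw [card_orbF hl₁, Finset.card_erase_of_mem (Finset.mem_univ _), Finset.card_univ, ZMod.card] at h1
  have := hp.out.two_le
  omega

theorem not_flat_of_unit1 {F : G → ℂ} {a : ℤ} {l₁ : ZMod p} {s : ℤ} (hl₁ : l₁ ≠ 0)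
    (hs : s = 1 ∨ s = -1) (h : Unit1 u (L.pow_p hu) F l₁ s) (hf : Flat (p := p) u F a) : False := by
  obtain ⟨l, hl, hoff⟩ := exists_off hu hu1 ht hl₁
  have h1 := (h l hl).2 hoff
  rw [hf l hl, Int.cast_eq_zero] at h1
  have h2 := (h l₁ hl₁).1 (sameOrb_refl l₁)
  rw [hf l₁ hl₁, Int.cast_inj] at h2
  omega

include hKc

open Classical in
/-- The relation on elements of order prime to `p`. -/
theorem relation {χ : IrrCharacter G} (hχ : Over L φ (χ : G → ℂ)) {l₁ : ZMod p} {s : ℤ}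
    (hl₁ : l₁ ≠ 0) (hs : s = 1 ∨ s = -1) (h : Unit1 u (L.pow_p hu) (χ : G → ℂ) l₁ s) {g : G}
    (hg : ¬ p ∣ orderOf g) :
    ∑ ψ ∈ flatSet (L := L) u φ, (ψ : G → ℂ) u * (ψ : G → ℂ) g + (s : ℂ) * (χ : G → ℂ) g = 0 := by
  have h0 := L.sum_cvec_mul_regular (lam hu hu1 ⟨l₁, hl₁⟩, irrK L φ) hg
  simp only [cvec_eq_ite hu hu1 hKc] at h0
  rw [← h0, eq_comm, Finset.sum_congr rfl (g := fun ψ : IrrCharacter G =>
    (if ψ ∈ flatSet (L := L) u φ then (ψ : G → ℂ) u * (ψ : G → ℂ) g else 0) +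
      if ψ = χ then (s : ℂ) * (χ : G → ℂ) g else 0) fun ψ _ => ?_, Finset.sum_add_distrib,
    Finset.sum_ite_mem, Finset.univ_inter, Finset.sum_ite_eq', if_pos (Finset.mem_univ χ)]
  by_cases hov : Over L φ (ψ : G → ℂ)
  swap
  · rw [if_neg hov, if_neg fun e => hov (mem_flatSet.1 e).1, if_neg (fun e => hov (by rw [e]; exact hχ)),
      zero_mul, add_zero]
  rw [if_pos hov]
  rcases row hu hu1 hKc hov with ⟨a, -, ha⟩ | ⟨m, hm, s', hs', hm'⟩
  · have hne : ψ ≠ χ := fun e => not_flat_of_unit1 hu hu1 ht hl₁ hs h (e ▸ ha)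
    rw [if_neg hne, add_zero, ha l₁ hl₁]
    by_cases ha0 : a = 0
    · subst ha0
      rw [if_neg, Int.cast_zero, zero_mul]
      intro hmem
      obtain ⟨-, b, hb, hfb⟩ := mem_flatSet.1 hmem
      exact hb (Int.cast_injective (α := ℂ) ((hfb l₁ hl₁).symm.trans (ha l₁ hl₁)))
    · rw [if_pos (mem_flatSet.2 ⟨hov, a, ha0, ha⟩), value_flat_one ha]
  · rw [if_neg fun hmem => ?_, zero_add]
    swap
    · obtain ⟨-, b, -, hfb⟩ := mem_flatSet.1 hmem
      exact not_flat_of_unit1 hu hu1 ht hm hs' hm' hfb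
    by_cases hso : SameOrb u (L.pow_p hu) m l₁
    · have hψ' : Unit1 u (L.pow_p hu) (ψ : G → ℂ) l₁ s' := fun l hl =>
        ⟨fun e => (hm' l hl).1 (sameOrb_trans hso e),
          fun e => (hm' l hl).2 fun e' => e (sameOrb_trans (sameOrb_symm hso) e')⟩
      have he := unit1_eq hu hu1 hKc ht hov hχ hl₁ hs' hs hψ' h
      subst he
      rw [if_pos rfl, (h l₁ hl₁).1 (sameOrb_refl l₁)]
    · rw [(hm' l₁ hl₁).2 hso, zero_mul, if_neg]
      rintro rfl
      have h1 := (h l₁ hl₁).1 (sameOrb_refl l₁)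
      rw [(hm' l₁ hl₁).2 hso, eq_comm, Int.cast_eq_zero] at h1
      omega

/-- The unit rows agree at the elements of order prime to `p`, with one sign. -/
theorem regular_unit1 {χ χ' : IrrCharacter G} (hχ : Over L φ (χ : G → ℂ))
    (hχ' : Over L φ (χ' : G → ℂ)) {l₁ l₂ : ZMod p} {s s' : ℤ} (hl₁ : l₁ ≠ 0) (hl₂ : l₂ ≠ 0)
    (hs : s = 1 ∨ s = -1) (hs' : s' = 1 ∨ s' = -1) (h : Unit1 u (L.pow_p hu) (χ : G → ℂ) l₁ s)
    (h' : Unit1 u (L.pow_p hu) (χ' : G → ℂ) l₂ s') :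
    s' = s ∧ Cfsg.charDegree (χ' : G → ℂ) = Cfsg.charDegree (χ : G → ℂ) ∧
      ∀ g : G, ¬ p ∣ orderOf g → (χ' : G → ℂ) g = (χ : G → ℂ) g := by
  have hreg1 : ¬ p ∣ orderOf (1 : G) := by rw [orderOf_one, Nat.dvd_one]; exact hp.out.ne_one
  have key : ∀ g : G, ¬ p ∣ orderOf g → (s' : ℂ) * (χ' : G → ℂ) g = (s : ℂ) * (χ : G → ℂ) g :=
    fun g hg => add_left_cancel ((relation hu hu1 hKc ht hχ' hl₂ hs' h' hg).trans
      (relation hu hu1 hKc ht hχ hl₁ hs h hg).symm)
  have h1 := key 1 hreg1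
  rw [← Blocks.charDegree_cast χ, ← Blocks.charDegree_cast χ'] at h1
  have h2 : s' * (Cfsg.charDegree (χ' : G → ℂ) : ℤ) = s * Cfsg.charDegree (χ : G → ℂ) := by
    exact_mod_cast h1
  have hp1 := Nat.pos_of_ne_zero (Blocks.charDegree_ne_zero χ)
  have hp2 := Nat.pos_of_ne_zero (Blocks.charDegree_ne_zero χ')
  obtain ⟨he, hd⟩ : s' = s ∧ Cfsg.charDegree (χ' : G → ℂ) = Cfsg.charDegree (χ : G → ℂ) := by
    rcases hs with r | r <;> rcases hs' with r' | r' <;> rw [r, r'] at h2 ⊢ <;> constructor <;> omega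
  refine ⟨he, hd, fun g hg => mul_left_cancel₀ ?_ (he ▸ key g hg)⟩
  rcases hs with r | r <;> rw [r] <;> norm_num

open Classical in
/-- The number of constant rows. -/
theorem card_flatSet (φ : L.K →* ℂˣ) :
    (flatSet (L := L) u φ).card = Nat.card (auts u (L.pow_p hu)) := by
  haveI := L.finite_col
  set O := L.orb (irrK L φ)
  haveI := Fintype.ofFinite (L.ColOver O)
  have h1 := L.counting.2.2.1 O
  rw [BrauerOrderP.eO_central L hKc, e_eq_card_auts hu hu1, Nat.card_eq_fintype_card,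
    Fintype.card_subtype] at h1
  choose lq hlq using exists_lam_col hu hu1 hKc φ
  choose f hf s hs hfu using fun q => exists_unit1 hu hu1 hKc ht φ (lq q).2
  have hinj : Function.Injective f := by
    intro q q' e
    have h2 : SameOrb u (L.pow_p hu) (lq q).1 (lq q').1 := by
      by_contra hn
      have h3 := (hfu q _ (lq q').2).2 hn
      rw [e, (hfu q' _ (lq q').2).1 (sameOrb_refl _), Int.cast_eq_zero] at h3
      rcases hs q' with r | r <;> omega
    rw [← hlq q, ← hlq q']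
    exact (colLam_irrK_eq_iff hu hu1 hKc φ (lq q) (lq q')).2 h2
  have hset : (Finset.univ.filter fun χ : IrrCharacter G => ∃ q : L.ColOver O, L.cint χ q.1 ≠ 0) =
      flatSet (L := L) u φ ∪ Finset.univ.image f := by
    ext χ
    simp only [Finset.mem_filter, Finset.mem_univ, true_and, Finset.mem_union, Finset.mem_image]
    constructor
    · rintro ⟨q, hq⟩
      obtain ⟨l, rfl⟩ := exists_lam_col hu hu1 hKc φ q
      have h2 := cint_eq_ite hu hu1 hKc χ φ l
      have hov : Over L φ (χ : G → ℂ) := by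
        by_contra hn
        rw [if_neg hn, Int.cast_eq_zero] at h2
        exact hq h2
      rw [if_pos hov] at h2
      rcases row hu hu1 hKc hov with ⟨a, -, ha⟩ | ⟨m, hm, s', hs', hm'⟩
      · refine Or.inl (mem_flatSet.2 ⟨hov, a, fun h0 => ?_, ha⟩)
        rw [ha l.1 l.2, h0, Int.cast_zero, Int.cast_eq_zero] at h2
        exact hq h2
      · refine Or.inr ⟨L.colLam O (lam hu hu1 ⟨m, hm⟩), ?_⟩
        set q := L.colLam O (lam hu hu1 ⟨m, hm⟩)
        have h3 : SameOrb u (L.pow_p hu) m (lq q).1 :=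
          (colLam_irrK_eq_iff hu hu1 hKc φ ⟨m, hm⟩ (lq q)).1 (hlq q).symm
        refine unit1_eq hu hu1 hKc ht (hf q) hov hm (hs q) hs' (fun x hx => ?_) hm'
        exact ⟨fun e => (hfu q x hx).1 (sameOrb_trans (sameOrb_symm h3) e),
          fun e => (hfu q x hx).2 fun e' => e (sameOrb_trans h3 e')⟩
    · rintro (hχ | ⟨q, rfl⟩)
      · obtain ⟨hov, a, ha0, ha⟩ := mem_flatSet.1 hχ
        refine ⟨L.colLam O (lam hu hu1 ⟨1, one_ne_zero⟩), fun h0 => ha0 ?_⟩
        have h2 := cint_eq_ite hu hu1 hKc χ φ ⟨1, one_ne_zero⟩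
        rw [if_pos hov, h0, ha 1 one_ne_zero] at h2
        exact_mod_cast h2.symm
      · refine ⟨L.colLam O (lam hu hu1 (lq q)), fun h0 => ?_⟩
        have h2 := cint_eq_ite hu hu1 hKc (f q) φ (lq q)
        rw [if_pos (hf q), h0, (hfu q _ (lq q).2).1 (sameOrb_refl _), Int.cast_zero, eq_comm,
          Int.cast_eq_zero] at h2
        rcases hs q with r | r <;> omega
  have hdisj : Disjoint (flatSet (L := L) u φ) (Finset.univ.image f) := by
    rw [Finset.disjoint_left]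
    intro χ hχ hχ'
    obtain ⟨q, -, rfl⟩ := Finset.mem_image.1 hχ'
    obtain ⟨-, a, -, ha⟩ := mem_flatSet.1 hχ
    exact not_flat_of_unit1 hu hu1 ht (lq q).2 (hs q) (hfu q) ha
  rw [hset, Finset.card_union_of_disjoint hdisj, Finset.card_image_of_injective _ hinj,
    Finset.card_univ, Nat.card_eq_fintype_card] at h1
  simp only [Fintype.card_eq_nat_card, O] at h1
  omega

end CfsgLib.DegreeSixteen
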