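import Cfsg.Agent.DegreeSixteen.Induction
import Cfsg.Agent.DegreeSixteen.Core.Decomp
import Cfsg.Agent.Blichfeldt.Hall

/-!
# The critical groups of degree 16

A group generated by its `p`-elements with Sylow subgroup of order `p` and trivial core, with a
faithful irreducible representation of degree 16: `(p, e)` is `(19, 3)` or `(31, 15)`, the
complement in the centralizer of the Sylow subgroup is the centre, and the representation is a unit
row over its central character.
-/

set_option autoImplicit false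
set_option linter.style.haveILetI false
set_option linter.unusedSectionVars false

namespace CfsgLib.DegreeSixteen

open Cfsg CfsgLib.Characters CfsgLib.SmallDegreeP CfsgLib.DefectOne
open scoped ComplexConjugate

variable {p : ℕ} [hp : Fact p.Prime] {G : Type} [Group G] [Fintype G]

/-- The standing hypotheses. -/
structure Lin16 (ρ : Representation ℂ G (Fin 16 → ℂ)) (L : Local p G) (u : G) : Prop where
  inj : Function.Injective ρ
  sq : ¬ p ^ 2 ∣ Nat.card G
  gen : Gen p G
  core_bot : core p G = ⊥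
  mem : u ∈ (L.P : Subgroup G)
  ne : u ≠ 1
  p19 : 19 ≤ p

variable {ρ : Representation ℂ G (Fin 16 → ℂ)} [ρ.IsIrreducible] {L : Local p G} {u : G}
  (H : Lin16 ρ L u)

include H

theorem Lin16.order : orderOf u = p := L.orderOf_of_mem H.mem H.ne

theorem Lin16.pow : u ^ p = 1 := L.pow_p H.mem

theorem Lin16.p_ge : 17 < p := by have := H.p19; omega

theorem Lin16.perfect : commutator G = ⊤ :=
  perfect_of_orderP ρ H.inj H.sq H.gen H.core_bot H.p_ge H.order

/-- The shape and the two cases. -/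
theorem Lin16.cases :
    ∃ l₀ : ZMod p, l₀ ≠ 0 ∧
      (∀ l : ZMod p, (SameOrb u H.pow l₀ l → mult ρ u l = 0) ∧
        (¬ SameOrb u H.pow l₀ l → mult ρ u l = 1)) ∧
      ((p = 19 ∧ Nat.card (auts u H.pow) = 3) ∨ (p = 31 ∧ Nat.card (auts u H.pow) = 15)) := by
  obtain ⟨Ω, h0, hcard, h2, hdvd, ⟨l0, hl0, hmem⟩, hcase⟩ :=
    shape ρ H.inj H.sq H.gen H.core_bot H.order H.p_ge
  refine ⟨l0, fun e => h0 (e ▸ hl0), ?_⟩
  have h19 := H.p19
  rcases hcase with ⟨-, hdp, hm⟩ | ⟨-, h4, m, hdm, -⟩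
  · refine ⟨fun l => ⟨fun h => ?_, fun h => ?_⟩, ?_⟩
    · rw [hm, if_pos]
      obtain ⟨a, ha, he⟩ := h
      exact (hmem l).2 ⟨a, ha, he⟩
    · rw [hm, if_neg]
      intro hl
      obtain ⟨a, ha, he⟩ := (hmem l).1 hl
      exact h ⟨a, ha, he⟩
    · rw [← hcard]
      have h15 : Ω.card ∣ 15 := by
        have := Nat.dvd_sub hdvd (dvd_refl Ω.card)
        rwa [show p - 1 - Ω.card = 15 by omega] at this
      have := Nat.le_of_dvd (by norm_num) h15
      have hp' := hp.out
      interval_cases hΩ : Ω.card <;> norm_num at h15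
      · omega
      · exact Or.inl ⟨by omega, rfl⟩
      · exfalso
        rw [show p = 21 by omega] at hp'
        norm_num at hp'
      · exact Or.inr ⟨by omega, rfl⟩
  · exfalso
    have h16 : Ω.card ∣ 16 := ⟨m, hdm⟩
    have := Nat.le_of_dvd (by norm_num) h16
    have hp' := hp.out
    interval_cases hΩ : Ω.card <;> norm_num at h16 <;> try omega
    · rw [show p = 25 by omega] at hp'
      norm_num at hp'
    · rcases (show p = 33 ∨ p = 49 by omega) with r | r <;> rw [r] at hp' <;> norm_num at hp'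

theorem Lin16.two_mul_e : 2 * Nat.card (auts u H.pow) ≤ p - 1 := by
  obtain ⟨l₀, -, -, ⟨hp', he⟩ | ⟨hp', he⟩⟩ := H.cases <;> rw [he] <;> omega

theorem Lin16.mult_le_one (l : ZMod p) : mult ρ u l ≤ 1 := by
  obtain ⟨l₀, -, hm, -⟩ := H.cases
  by_cases h : SameOrb u H.pow l₀ l
  · rw [(hm l).1 h]; exact Nat.zero_le _
  · rw [(hm l).2 h]

/-- The centralizer of `u` is abelian. -/
theorem Lin16.commute_of_commute {a b : G} (ha : Commute a u) (hb : Commute b u) : Commute a b := by
  have hup := H.pow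
  have hline : ∀ (g : G), Commute g u → ∀ l : ZMod p, ∀ x ∈ Module.End.eigenspace (ρ u) (ZMod.stdAddChar l : ℂ),
      ρ g x ∈ Module.End.eigenspace (ρ u) (ZMod.stdAddChar l : ℂ) := by
    intro g hg l x hx
    rw [Module.End.mem_eigenspace_iff] at hx ⊢
    rw [← Module.End.mul_apply, ← map_mul, ← hg.eq, map_mul, Module.End.mul_apply, hx, map_smul]
  refine H.inj (LinearMap.ext fun x => ?_)
  have hone : x = ∑ l : ZMod p, Matrix.toLinAlgEquiv' (proj (matRep ρ) u l) x := by
    rw [← LinearMap.sum_apply, ← map_sum, sum_proj, map_one, Module.End.one_apply]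
  rw [hone, map_sum, map_sum]
  refine Finset.sum_congr rfl fun l _ => ?_
  have hy := (isProj_proj ρ hup l).map_mem x
  generalize Matrix.toLinAlgEquiv' (proj (matRep ρ) u l) x = y at hy ⊢
  by_cases hy0 : y = 0
  · rw [hy0, map_zero, map_zero]
  set E := Module.End.eigenspace (ρ u) (ZMod.stdAddChar l : ℂ)
  have h1 : Module.finrank ℂ E ≤ 1 := H.mult_le_one l
  have hsc : ∀ g, Commute g u → ∃ c : ℂ, ρ g y = c • y := by
    intro g hg
    have h2 := hline g hg l y hy
    have h3 : Module.finrank ℂ E = 1 := le_antisymm h1 (Nat.one_le_iff_ne_zero.2 fun h => hy0 (by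
      have := Submodule.finrank_eq_zero.1 h ▸ hy
      simpa using this))
    obtain ⟨c, hc⟩ := exists_smul_eq_of_finrank_eq_one h3 (x := (⟨y, hy⟩ : E))
      (fun e => hy0 (congrArg Subtype.val e)) (⟨_, h2⟩ : E)
    exact ⟨c, (congrArg Subtype.val hc).symm⟩
  obtain ⟨c, hc⟩ := hsc a ha
  obtain ⟨d, hd⟩ := hsc b hb
  rw [map_mul, map_mul, Module.End.mul_apply, Module.End.mul_apply, hc, hd, map_smul, map_smul, hc, hd,
    smul_smul, smul_smul, mul_comm]

theorem Lin16.center_le : Subgroup.center G ≤ L.K := by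
  intro z hz
  refine L.mem_K z (Subgroup.mem_centralizer_iff.2 fun a _ => Subgroup.mem_center_iff.1 hz a) ?_
  intro hd
  have hn := Nat.div_mul_cancel hd
  set w := z ^ (orderOf z / p)
  have hw : w ^ p = 1 := by rw [← pow_mul, hn, pow_orderOf_eq_one]
  have hwc : w ∈ Subgroup.center G := pow_mem hz _
  have h1 := mem_core_of_central (PElem.of_pow_p (p := p) hw) hwc
  rw [H.core_bot, Subgroup.mem_bot] at h1
  have h2 := orderOf_dvd_of_pow_eq_one h1
  have h3 := Nat.le_of_dvd (Nat.div_pos (Nat.le_of_dvd (orderOf_pos z) hd) hp.out.pos) h2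
  have h4 := Nat.div_lt_self (orderOf_pos z) hp.out.one_lt
  omega

/-- The complement is the centre. -/
theorem Lin16.K_center : L.K = Subgroup.center G := by
  classical
  refine le_antisymm (fun k hk => ?_) H.center_le
  haveI := L.finite_lam
  letI := Fintype.ofFinite L.Lam
  haveI := Fintype.ofFinite L.K
  have hcomm : ∀ a ∈ L.K, Commute a u := fun a ha => (L.commute H.mem ha).symm
  haveI : IsMulCommutative L.K := ⟨⟨fun a b => Subtype.ext
    (H.commute_of_commute (hcomm a a.2) (hcomm b b.2)).eq⟩⟩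
  set χ := irrOf ρ
  have hdeg : Cfsg.charDegree (χ : G → ℂ) = 16 := by
    simp [Cfsg.charDegree, χ, irrOf, Representation.char_one]
  have h19 := H.p19
  have hnd : ¬ p ∣ Cfsg.charDegree (χ : G → ℂ) := fun h => by
    have := Nat.le_of_dvd (by omega) h
    omega
  obtain ⟨q, hq⟩ := L.exists_cint_ne_zero χ hnd
  set O := L.under q
  obtain ⟨hform, hdegf⟩ := BrauerOrderP.small_degree L (χ := χ) (O := O) ⟨⟨q, rfl⟩, hq⟩
    (by rw [hdeg]; omega)
  set φ : IrrCharacter L.K := Quotient.out O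
  obtain ⟨d, σ, hσ, hσφ⟩ := id φ.2
  haveI := hσ
  have hφd : (φ : L.K → ℂ) 1 = 1 := by
    rw [← hσφ, Representation.char_one,
      Representation.IsIrreducible.finrank_eq_one_of_isMulCommutative σ, Nat.cast_one]
  have hφdeg : Cfsg.charDegree (φ : L.K → ℂ) = 1 := by simp [Cfsg.charDegree, hφd]
  obtain ⟨M, hM⟩ := classInner_character_irr (isCharacter_restrict L.K (isCharacter_of_isIrr χ.2)) φ.2
  have hmk : BrauerOrderP.multK L χ φ = M := hM
  rw [hdeg, hφdeg, mul_one, hmk] at hdegf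
  have h16 : L.orbCard O ∣ 16 := ⟨M, by exact_mod_cast hdegf.trans (mul_comm _ _)⟩
  have he : L.orbCard O ∣ Nat.card (auts u H.pow) := by
    rw [← e_eq_card_auts H.mem H.ne]
    exact ⟨_, (BrauerOrderP.orbCard_mul_eO L O).symm⟩
  have horb : L.orbCard O = 1 := by
    obtain ⟨l₀, -, -, ⟨-, he'⟩ | ⟨-, he'⟩⟩ := H.cases <;> rw [he'] at he <;>
      exact Nat.eq_one_of_dvd_coprimes (by norm_num) h16 he
  have hM16 : M = 16 := by
    rw [horb, Nat.cast_one, mul_one] at hdegf
    exact_mod_cast hdegf.symm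
  have hsum : ∑ ψ ∈ Finset.univ.filter (fun ψ : IrrCharacter L.K => L.orb ψ = O),
      (ψ : L.K → ℂ) ⟨k, hk⟩ = (φ : L.K → ℂ) ⟨k, hk⟩ := by
    have hsub := (Nat.card_eq_one_iff_unique.1 horb).1
    rw [Finset.sum_eq_single φ (fun ψ hψ hne => absurd
      (congrArg Subtype.val (hsub.elim ⟨ψ, (Finset.mem_filter.1 hψ).2⟩ ⟨φ, Quotient.out_eq O⟩)) hne)
      fun h => absurd (Finset.mem_filter.2 ⟨Finset.mem_univ φ, (Quotient.out_eq O : L.orb φ = O)⟩) h]
  have hk16 := hform ⟨k, hk⟩
  rw [hsum, hmk, hM16] at hk16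
  have hnorm : ‖(φ : L.K → ℂ) ⟨k, hk⟩‖ = 1 := by
    obtain ⟨f, hf⟩ := exists_hom_of_degree_one (isCharacter_of_isIrr φ.2) hφd
    rw [hf]
    exact Complex.norm_eq_one_of_pow_eq_one (by
      rw [← Units.val_pow_eq_pow_val, ← map_pow, pow_card_eq_one', map_one, Units.val_one])
      Nat.card_pos.ne'
  obtain ⟨ω, hω⟩ := (norm_char_eq_iff_scalar ρ k).1 (by
    show ‖(χ : G → ℂ) k‖ = _
    rw [hk16, norm_mul, hnorm, mul_one, Complex.norm_natCast, Module.finrank_fin_fun])
  refine Subgroup.mem_center_iff.2 fun g => H.inj ?_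
  rw [map_mul, map_mul, hω]
  ext v
  simp [Module.End.mul_apply]

/-- Determinants are trivial. -/
theorem Lin16.det_one {d : ℕ} (σ : Representation ℂ G (Fin d → ℂ)) (g : G) :
    LinearMap.det (σ g) = 1 := by
  let D : G →* ℂˣ := (LinearMap.det.comp σ).toHomUnits
  have h : g ∈ D.ker := Abelianization.commutator_subset_ker D (H.perfect ▸ Subgroup.mem_top g)
  exact congrArg Units.val h

/-- The central character. -/
theorem Lin16.exists_phi :
    ∃ φ : L.K →* ℂˣ, Over L φ ρ.character ∧ (∀ k : L.K, ρ k = (φ k : ℂ) • LinearMap.id) ∧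
      φ ^ 16 = 1 := by
  obtain ⟨φ, hφ⟩ := exists_over H.K_center (irrOf ρ)
  have hs : ∀ k : L.K, ρ k = (φ k : ℂ) • LinearMap.id := by
    intro k
    obtain ⟨c, hc⟩ := central_scalar ρ (H.K_center ▸ k.2 : (k : G) ∈ Subgroup.center G)
    have h1 := hφ 1 k
    rw [one_mul] at h1
    change ρ.character k = _ * ρ.character 1 at h1
    rw [Representation.char_one, Representation.character, hc, map_smul,
      show (LinearMap.id : Module.End ℂ (Fin 16 → ℂ)) = 1 from rfl, LinearMap.trace_one, smul_eq_mul,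
      Module.finrank_fin_fun] at h1
    rw [hc, mul_right_cancel₀ (by norm_num) h1]
  refine ⟨φ, hφ, hs, MonoidHom.ext fun k => Units.ext ?_⟩
  have h := H.det_one ρ k
  rw [hs, det_smul_end, LinearMap.det_id, mul_one] at h
  simpa using h

/-- The representation is a unit row of sign one. -/
theorem Lin16.unit1 {l₀ : ZMod p} (hm : ∀ l : ZMod p, (SameOrb u H.pow l₀ l → mult ρ u l = 0) ∧
    (¬ SameOrb u H.pow l₀ l → mult ρ u l = 1)) (hl₀ : l₀ ≠ 0) :
    Unit1 u H.pow ρ.character l₀ 1 := by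
  have hup := H.pow
  have hval : ∀ i : ZMod p, ρ.character (upow u i) =
      ∑ l : ZMod p, (mult ρ u l : ℂ) * ZMod.stdAddChar (i * l) := by
    intro i
    have hc : Matrix.trace (matRep ρ (upow u i)) = ρ.character (upow u i) := by
      rw [← Matrix.trace_toLin'_eq]
      exact congrArg (LinearMap.trace ℂ (Fin 16 → ℂ)) (toLin_matRep ρ (upow u i))
    rw [← hc, ← mul_one (matRep ρ (upow u i)), ← sum_proj (p := p) (matRep ρ) u, Finset.mul_sum,
      Matrix.trace_sum]
    refine Finset.sum_congr rfl fun l _ => ?_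
    rw [rho_mul_proj _ u hup, Matrix.trace_smul, trace_proj_eq ρ hup, smul_eq_mul, mul_comm]
  intro l hl
  have h : cc u ρ.character l = (mult ρ u (0 : ZMod p) : ℂ) - mult ρ u l := by
    rw [cc_of_sum u Finset.univ (fun j => (mult ρ u j : ℂ)) id _ (fun i _ => hval i) l]
    simp [mul_sub, Finset.sum_sub_distrib]
  have h0 : mult ρ u (0 : ZMod p) = 1 := (hm 0).2 fun ⟨a, _, he⟩ =>
    hl₀ ((Units.mul_right_eq_zero (a : (ZMod p)ˣ)).1 he.symm)
  refine ⟨fun hs => ?_, fun hs => ?_⟩
  · rw [h, h0, (hm l).1 hs]; simp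
  · rw [h, h0, (hm l).2 hs]; simp

/-- Normal subgroups of order prime to `p` are central. -/
theorem Lin16.normal_le_K (M : Subgroup G) [M.Normal] (hM : ¬ p ∣ Nat.card M) : M ≤ L.K := by
  classical
  rw [H.K_center]
  set W := M ⊔ Subgroup.zpowers u
  have huW : u ∈ W := Subgroup.mem_sup_right (Subgroup.mem_zpowers u)
  haveI := Fintype.ofFinite W
  have hcom : ∀ a ∈ M, Commute a u := by
    intro a ha
    have haW : a ∈ W := Subgroup.mem_sup_left ha
    obtain ⟨m, hm⟩ := exists_nat_coeff (isCharacter_restrict W (isCharacter_character ρ))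
    set x : W := ⟨a, haW⟩ * ⟨u, huW⟩ * (⟨a, haW⟩ : W)⁻¹ * (⟨u, huW⟩ : W)⁻¹
    have hx : ∀ ψ : IrrCharacter W, m ψ ≠ 0 → (ψ : W → ℂ) x = (ψ : W → ℂ) 1 := by
      intro ψ hψ
      obtain ⟨d, σ, hσ, hσψ⟩ := id ψ.2
      haveI := hσ
      choose e he0 he using fun φ : IrrCharacter W => exists_degree_pos φ.2
      have hd : d ≤ 16 := by
        have h1 := congrFun hm 1
        simp only [OneMemClass.coe_one, Finset.sum_apply, Pi.smul_apply, smul_eq_mul, he] at h1
        rw [Representation.char_one, Module.finrank_fin_fun] at h1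
        have h2 : 16 = ∑ φ, m φ * e φ := by exact_mod_cast h1
        have h3 : (d : ℂ) = e ψ := by rw [← he, ← hσψ, Representation.char_one, Module.finrank_fin_fun]
        have h4 : d = e ψ := by exact_mod_cast h3
        rw [h2, h4]
        exact le_trans (Nat.le_mul_of_pos_left _ (Nat.pos_of_ne_zero hψ))
          (Finset.single_le_sum (fun φ _ => Nat.zero_le (m φ * e φ)) (Finset.mem_univ ψ))
      haveI : (M.subgroupOf W).Normal := Subgroup.Normal.comap inferInstance _
      haveI := Fintype.ofFinite (M.subgroupOf W)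
      obtain ⟨c, hc⟩ := CharactersDeep.SmallDegree.scalar_of_small (p := p) (k := 0)
        (M.subgroupOf W) (⟨u, huW⟩ : W)
        (by rw [Subgroup.orderOf_mk, H.order, zero_add, pow_one])
        (by rwa [Nat.card_congr (Subgroup.subgroupOfEquivOfLe (le_sup_left : M ≤ W)).toEquiv])
        (fun g => by
          obtain ⟨b, hb, v, hv, hbv⟩ := Subgroup.mem_sup_of_normal_left.1 g.2
          obtain ⟨i, rfl⟩ := Subgroup.mem_zpowers_iff.1 hv
          exact ⟨⟨b, Subgroup.mem_sup_left hb⟩, hb, (⟨u, huW⟩ : W) ^ i,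
            zpow_mem (Subgroup.mem_zpowers _) i, Subtype.ext (by simpa using hbv.symm)⟩)
        (by
          rw [show (⟨u, huW⟩ : W) ^ p = 1 from Subtype.ext (by simpa using H.pow)]
          exact one_mem _)
        σ (by have := H.p_ge; omega)
      rw [← hσψ]
      show LinearMap.trace ℂ _ (σ x) = LinearMap.trace ℂ _ (σ 1)
      congr 1
      have h1 : σ (⟨a, haW⟩ * ⟨u, huW⟩) = σ (⟨u, huW⟩ * ⟨a, haW⟩) := by
        rw [map_mul, map_mul, hc, Module.End.mul_eq_comp, Module.End.mul_eq_comp,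
          LinearMap.comp_smul, LinearMap.comp_id, LinearMap.smul_comp, LinearMap.id_comp]
      show σ (⟨a, haW⟩ * ⟨u, huW⟩ * (⟨a, haW⟩ : W)⁻¹ * (⟨u, huW⟩ : W)⁻¹) = σ 1
      rw [map_mul σ (⟨a, haW⟩ * ⟨u, huW⟩ * (⟨a, haW⟩ : W)⁻¹), map_mul σ (⟨a, haW⟩ * ⟨u, huW⟩ : W), h1,
        ← map_mul, ← map_mul, mul_inv_cancel_right, mul_inv_cancel]
    have h1 : ρ.character (x : G) = ρ.character 1 := by
      have e1 := congrFun hm x
      have e2 := congrFun hm 1
      simp only [OneMemClass.coe_one, Finset.sum_apply, Pi.smul_apply, smul_eq_mul] at e1 e2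
      rw [e1, e2]
      refine Finset.sum_congr rfl fun ψ _ => ?_
      by_cases h : m ψ = 0
      · rw [h]; simp
      · rw [hx ψ h]
    rw [Representation.char_one] at h1
    have h2 : a * u * a⁻¹ * u⁻¹ = 1 :=
      H.inj ((char_eq_finrank_iff ρ _).1 h1 |>.trans (map_one ρ).symm)
    rw [mul_inv_eq_one, mul_inv_eq_iff_eq_mul] at h2
    exact h2
  intro a ha
  have hsub : ∀ g : G, Commute a (g * u * g⁻¹) := fun g => by
    have h := (hcom _ ((inferInstance : M.Normal).conj_mem a ha g⁻¹)).map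
      (MulAut.conj g).toMonoidHom
    simpa [mul_assoc] using h
  refine Subgroup.mem_center_iff.2 fun g => ?_
  have htop := H.gen.eq_top (M := Subgroup.centralizer ({a} : Set G)) fun x hx => by
    obtain ⟨Q, hQ⟩ := hx.exists_sylow
    obtain ⟨c, rfl⟩ := MulAction.exists_smul_eq G L.P Q
    rw [Sylow.coe_subgroup_smul] at hQ
    obtain ⟨w, hw, rfl⟩ := Subgroup.mem_map.1
      (show x ∈ (L.P : Subgroup G).map (MulAut.conj c).toMonoidHom from hQ)
    obtain ⟨e, he⟩ := exists_equivP H.mem H.ne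
    have hw' : ((e (e.symm ⟨w, hw⟩) : (L.P : Subgroup G)) : G) = upow u (e.symm ⟨w, hw⟩) := he _
    rw [Equiv.apply_symm_apply] at hw'
    refine Subgroup.mem_centralizer_singleton_iff.2 ?_
    show c * w * c⁻¹ * a = a * (c * w * c⁻¹)
    rw [show w = upow u (e.symm ⟨w, hw⟩) from hw', upow, ← conj_pow]
    exact ((hsub c).pow_right _).eq.symm
  exact Subgroup.mem_centralizer_singleton_iff.1 (htop.ge (Subgroup.mem_top g))

/-- No prime above 17 other than `p` divides the order. -/
theorem Lin16.not_dvd_card {q : ℕ} (hq : q.Prime) (h17 : 17 < q) (hqp : q ≠ p) :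
    ¬ q ∣ Nat.card G := by
  intro hdvd
  haveI : Fact q.Prime := ⟨hq⟩
  obtain ⟨A, hA, -, hAi⟩ := Blichfeldt.exists_abelian_hall (isCharacter_character ρ)
    (fun g hg => H.inj (by
      rw [map_one]
      rw [Representation.char_one] at hg
      exact (char_eq_finrank_iff ρ g).1 hg))
    (n := 16) (by rw [Representation.char_one, Module.finrank_fin_fun])
  have hmem : ∀ r : ℕ, r.Prime → 17 < r → r ∣ Nat.card G → r ∣ Nat.card A := by
    intro r hr hr17 hrd
    rw [← A.card_mul_index] at hrd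
    exact (hr.dvd_mul.1 hrd).resolve_right fun h => by have := hAi r hr h; omega
  obtain ⟨a, ha⟩ := exists_prime_orderOf_dvd_card' (G := A) p
    (hmem p hp.out H.p_ge (H.order ▸ orderOf_dvd_natCard u))
  obtain ⟨b, hb⟩ := exists_prime_orderOf_dvd_card' (G := A) q (hmem q hq h17 hdvd)
  obtain ⟨Q, hQ⟩ := (PElem.of_pow_p (p := p) (x := (a : G))
    (by rw [← ha, ← Subgroup.orderOf_coe, pow_orderOf_eq_one])).exists_sylow
  obtain ⟨c, hc⟩ := MulAction.exists_smul_eq G Q L.P
  have hcP : c * (a : G) * c⁻¹ ∈ (L.P : Subgroup G) := by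
    rw [← hc, Sylow.coe_subgroup_smul, Subgroup.mem_pointwise_smul_iff_inv_smul_mem]
    simpa [MulAut.smul_def, mul_assoc] using hQ
  have hc1 : c * (a : G) * c⁻¹ ≠ 1 := fun h => by
    rw [conj_eq_one_iff] at h
    rw [← Subgroup.orderOf_coe, h, orderOf_one] at ha
    exact hp.out.ne_one ha.symm
  have hcb : c * (b : G) * c⁻¹ ∈ Subgroup.centralizer ({c * (a : G) * c⁻¹} : Set G) := by
    refine Subgroup.mem_centralizer_singleton_iff.2 ?_
    exact ((show Commute (b : G) a from congrArg Subtype.val (mul_comm' b a)).map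
      (MulAut.conj c).toMonoidHom).eq
  rw [L.centralizer_singleton hcP hc1] at hcb
  have hord : orderOf (c * (b : G) * c⁻¹) = q := by
    rw [show c * (b : G) * c⁻¹ = MulAut.conj c (b : G) from rfl, MulEquiv.orderOf_eq,
      Subgroup.orderOf_coe, hb]
  have hK : c * (b : G) * c⁻¹ ∈ L.K := L.mem_K _ hcb fun h => by
    rw [hord] at h
    exact hqp ((Nat.prime_dvd_prime_iff_eq hp.out hq).1 h).symm
  obtain ⟨φ, -, hs, h16⟩ := H.exists_phi
  have h1 : (c * (b : G) * c⁻¹) ^ 16 = 1 := H.inj (by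
    rw [map_pow, hs ⟨_, hK⟩, smul_pow, ← Units.val_pow_eq_pow_val, ← MonoidHom.pow_apply, h16,
      MonoidHom.one_apply, Units.val_one, one_smul, map_one]
    rfl)
  have h2 := Nat.le_of_dvd (by norm_num) (hord ▸ orderOf_dvd_of_pow_eq_one h1)
  omega

theorem Lin16.sixteen_dvd : 16 ∣ L.K.index := by
  have h := finrank_dvd_index ρ L.K fun z hz =>
    central_scalar ρ (H.K_center ▸ hz : z ∈ Subgroup.center G)
  rwa [Module.finrank_fin_fun] at h

end CfsgLib.DegreeSixteen
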