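import Cfsg.Agent.DegreeSixteen.Core.Facts

/-!
# Sums over the rows over the trivial character and the impossibility of inversion
-/

set_option autoImplicit false
set_option linter.style.haveILetI false
set_option linter.unusedSectionVars false

namespace CfsgLib.DegreeSixteen

open Cfsg CfsgLib.Characters CfsgLib.SmallDegreeP CfsgLib.DefectOne
open scoped ComplexConjugate

universe u

variable {p : ℕ} [hp : Fact p.Prime]

theorem upow_neg {G : Type u} [Group G] {u : G} (hup : u ^ p = 1) (i : ZMod p) :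
    upow u (-i) = (upow u i)⁻¹ :=
  eq_inv_of_mul_eq_one_left (by rw [← upow_add u hup, neg_add_cancel, upow_zero])

theorem cast_ne_zero' {n : ℕ} (hn : ¬ p ∣ n) : (n : ZMod p) ≠ 0 := fun h =>
  hn ((CharP.cast_eq_zero_iff (ZMod p) p n).1 h)

variable {G : Type u} [Group G] [Fintype G] {L : Local p G} {u : G}
  (hu : u ∈ (L.P : Subgroup G)) (hu1 : u ≠ 1) (hKc : L.K = Subgroup.center G)
  (ht : 2 * Nat.card (auts u (L.pow_p hu)) ≤ p - 1) {φ : L.K →* ℂˣ}

include hu hu1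

theorem exists_aut_of_isConj {i : ZMod p} (h : IsConj u (upow u i)) :
    ∃ a ∈ auts u (L.pow_p hu), ((a : (ZMod p)ˣ) : ZMod p) = i := by
  obtain ⟨g, hg⟩ := isConj_iff.1 h
  have hi : i ≠ 0 := fun h0 => by
    rw [h0, upow_zero, conj_eq_one_iff] at hg
    exact hu1 hg
  exact ⟨Units.mk0 i hi, ⟨g, hg⟩, rfl⟩

theorem not_isConj_inv (hp2 : p ≠ 2) (hodd : Odd (Nat.card (auts u (L.pow_p hu)))) :
    ¬ IsConj u (upow u (-1 : ZMod p)) := by
  intro h
  obtain ⟨a, ha, he⟩ := exists_aut_of_isConj hu hu1 h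
  have h1 : a ^ 2 = 1 := Units.ext (by rw [Units.val_pow_eq_pow_val, he, Units.val_one]; ring)
  have h2 : a ^ Nat.card (auts u (L.pow_p hu)) = 1 :=
    congrArg Subtype.val (pow_card_eq_one' (x := (⟨a, ha⟩ : auts u (L.pow_p hu))))
  have h3 := Nat.eq_one_of_dvd_coprimes (Nat.coprime_two_left.2 hodd) (orderOf_dvd_of_pow_eq_one h1)
    (orderOf_dvd_of_pow_eq_one h2)
  rw [orderOf_eq_one_iff] at h3
  rw [h3, Units.val_one] at he
  have h4 : ((2 : ℕ) : ZMod p) = 0 := by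
    rw [Nat.cast_ofNat, ← one_add_one_eq_two]
    nth_rewrite 1 [he]
    exact neg_add_cancel _
  exact cast_ne_zero' (fun hd => hp2 ((Nat.prime_dvd_prime_iff_eq hp.out Nat.prime_two).1 hd)) h4

include hKc ht

/-- A unit row is not constant. -/
theorem unit_nonconst {χ : IrrCharacter G} {l₁ : ZMod p} {s : ℤ} (hl₁ : l₁ ≠ 0)
    (hs : s = 1 ∨ s = -1) (h : Unit1 u (L.pow_p hu) (χ : G → ℂ) l₁ s) :
    (χ : G → ℂ) u ≠ (χ : G → ℂ) 1 := by
  intro he
  obtain ⟨n, σ, hσ, hσχ⟩ := id χ.2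
  have h1 : σ u = LinearMap.id := (char_eq_finrank_iff σ u).1 (by
    rw [hσχ, he, ← hσχ, Representation.char_one])
  refine not_flat_of_unit1 hu hu1 ht hl₁ hs h (a := (n : ℤ)) fun l hl => ?_
  rw [cc_of_sum u ({0} : Finset (ZMod p)) (fun _ => (n : ℂ)) id _ (fun i _ => ?_) l]
  · simp [eq_comm, hl]
  · rw [← hσχ]
    show LinearMap.trace ℂ _ (σ (u ^ i.val)) = _
    rw [map_pow, h1, show (LinearMap.id : Module.End ℂ (Fin n → ℂ)) = 1 from rfl, one_pow,
      LinearMap.trace_one]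
    simp

/-- The sum of the values at `u` of the unit rows. -/
theorem unit_sum {χ₀ : IrrCharacter G} (hχ₀ : Over L φ (χ₀ : G → ℂ)) {l₀ : ZMod p} {s : ℤ}
    (hl₀ : l₀ ≠ 0) (hs : s = 1 ∨ s = -1) (h₀ : Unit1 u (L.pow_p hu) (χ₀ : G → ℂ) l₀ s) :
    ∑ χ ∈ unitSet hu φ, (χ : G → ℂ) u = (s : ℂ) := by
  classical
  have h := rows_orth hu hu1 hKc ht (φ := φ) (w := 1) (one_mem _)
  rw [orth hu hu1 hKc φ (one_mem _), if_neg fun hc => hu1 (isConj_one_left.1 hc)] at h
  have hrel := relation hu hu1 hKc ht hχ₀ hl₀ hs h₀ (g := 1)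
    (by rw [orderOf_one, Nat.dvd_one]; exact hp.out.ne_one)
  rw [Finset.sum_congr (s₂ := flatSet (L := L) u φ) rfl (g := fun χ => (χ : G → ℂ) u * (χ : G → ℂ) 1)
    fun χ _ => by rw [← Blocks.charDegree_cast χ, Complex.conj_natCast],
    Finset.sum_congr (s₂ := unitSet hu φ) rfl (g := fun χ => (χ : G → ℂ) u * (χ₀ : G → ℂ) 1)
    fun χ hχ => by
      obtain ⟨hov, l₁, s', hl₁, hs', h'⟩ := (mem_unitSet hu).1 hχ
      rw [← Blocks.charDegree_cast χ, Complex.conj_natCast, ← Blocks.charDegree_cast χ₀,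
        (regular_unit1 hu hu1 hKc ht hχ₀ hov hl₀ hl₁ hs hs' h₀ h').2.1],
    ← Finset.sum_mul] at h
  refine mul_right_cancel₀ (irr_one_ne_zero χ₀.2) ?_
  linear_combination h - hrel

/-- The squared norms of the values at `u` of the unit rows. -/
theorem unit_norm :
    ∑ χ ∈ unitSet hu φ, (χ : G → ℂ) u * conj ((χ : G → ℂ) u) =
      (p : ℂ) - (Nat.card (auts u (L.pow_p hu)) : ℂ) := by
  classical
  have h := rows_orth hu hu1 hKc ht (φ := φ) hu
  rw [orth hu hu1 hKc φ hu, if_pos (IsConj.refl u), sum_flat_sq hu hu1 hKc ht] at h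
  linear_combination h

/-- The values at a power not conjugate to `u`. -/
theorem unit_cross {i : ZMod p} (hi : i ≠ 0) (hnc : ¬ IsConj u (upow u i)) :
    ∑ χ ∈ unitSet hu φ, (χ : G → ℂ) u * conj ((χ : G → ℂ) (upow u i)) =
      -(Nat.card (auts u (L.pow_p hu)) : ℂ) := by
  classical
  have hw : upow u i ∈ (L.P : Subgroup G) := pow_mem hu _
  have h := rows_orth hu hu1 hKc ht (φ := φ) hw
  rw [orth hu hu1 hKc φ hw, if_neg hnc, Finset.sum_congr (s₂ := flatSet (L := L) u φ) rfl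
    (g := fun _ => (1 : ℂ)) fun χ hχ => ?_, Finset.sum_const, card_flatSet hu hu1 hKc ht,
    nsmul_one] at h
  · linear_combination h
  · obtain ⟨a, ha, hv, hvi, -⟩ := flat_value hu hu1 hKc ht hχ
    rw [hv, hvi i hi]
    rcases ha with r | r <;> subst r <;> simp

/-- Sums against the conjugate values at `u`. -/
theorem sum_rows_conj (F : IrrCharacter G → ℂ) :
    ∑ χ ∈ overSet φ, F χ * conj ((χ : G → ℂ) u) =
      ∑ χ ∈ flatSet (L := L) u φ, (χ : G → ℂ) u * F χ +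
        ∑ χ ∈ unitSet hu φ, conj ((χ : G → ℂ) u) * F χ := by
  have h := congrArg conj (sum_rows hu hu1 hKc ht (φ := φ) fun χ => conj (F χ))
  simp only [map_add, map_sum, map_mul, Complex.conj_conj] at h
  rw [Finset.sum_congr rfl fun χ _ => mul_comm (F χ) _, h]
  congr 1
  refine Finset.sum_congr rfl fun χ hχ => ?_
  obtain ⟨a, -, hv, -⟩ := flat_value hu hu1 hKc ht hχ
  rw [hv, map_intCast]

end CfsgLib.DegreeSixteen
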