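import Cfsg.Agent.DegreeSixteen.Core.Common
import Cfsg.Agent.SmallValue.Tools
import Cfsg.Agent.SmallModP.Recognition

/-!
# The prime 31

The symmetric square leads from a unit row of degree 16 over `φ` to a character of degree 15 or to a
unit row of degree 16 over `φ ^ 2`; there is none over the trivial character.  A character of degree
15 identifies the quotient by the centre as `PSL(2, 31)`.
-/

set_option autoImplicit false
set_option linter.style.haveILetI false
set_option linter.unusedSectionVars false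

namespace CfsgLib.DegreeSixteen

open Cfsg CfsgLib.Characters CfsgLib.SmallDegreeP CfsgLib.DefectOne
open scoped ComplexConjugate

universe u

local instance fact31 : Fact (Nat.Prime 31) := ⟨by norm_num⟩

/-- The nonzero squares modulo 31. -/
def sq31 : Finset (ZMod 31) := {1, 2, 4, 5, 7, 8, 9, 10, 14, 16, 18, 19, 20, 25, 28}

theorem roots31 : ∀ x : ZMod 31, x ^ 15 = 1 → x ∈ sq31 := by decide +kernel

theorem classes31 : ∀ x : ZMod 31, x ≠ 0 → x ∈ sq31 ∨ x * 21 ∈ sq31 := by decide +kernel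

section

variable {G : Type u} [Group G] [Fintype G] {u : G}

theorem orbF_thirtyone (hup : u ^ 31 = 1) (h15 : Nat.card (auts u hup) = 15) {l₀ : ZMod 31}
    (hl₀ : l₀ ≠ 0) : orbF u hup l₀ = sq31.image (· * l₀) := by
  refine Finset.eq_of_subset_of_card_le (fun l hl => ?_) ?_
  · obtain ⟨a, ha, rfl⟩ := mem_orbF.1 hl
    refine Finset.mem_image.2 ⟨_, roots31 _ ?_, rfl⟩
    have h := congrArg Subtype.val (pow_card_eq_one' (x := (⟨a, ha⟩ : auts u hup)))
    rw [h15] at h
    rw [← Units.val_pow_eq_pow_val]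
    exact congrArg Units.val h
  · rw [card_orbF hl₀, h15]
    exact Finset.card_image_le.trans_eq (by decide +kernel)

theorem sameOrb_thirtyone (hup : u ^ 31 = 1) (h15 : Nat.card (auts u hup) = 15) {l₀ c : ZMod 31}
    (hl₀ : l₀ ≠ 0) (hc : c ∈ sq31) : SameOrb u hup l₀ (c * l₀) :=
  mem_orbF.1 (by rw [orbF_thirtyone hup h15 hl₀]; exact Finset.mem_image.2 ⟨c, hc, rfl⟩)

/-- The squares are exponents of conjugation. -/
theorem conj_thirtyone (hup : u ^ 31 = 1) (h15 : Nat.card (auts u hup) = 15) {c : ZMod 31}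
    (hc : c ∈ sq31) : ∃ g : G, g * u * g⁻¹ = upow u c := by
  obtain ⟨a, ⟨g, hg⟩, he⟩ := sameOrb_thirtyone hup h15 one_ne_zero hc
  rw [mul_one, mul_one] at he
  exact ⟨g, by rw [hg, he]⟩

end

/-- An irreducible character other than the trivial one is not constant. -/
theorem exists_ne_one_value {G : Type u} [Group G] [Fintype G] {χ : IrrCharacter G}
    (hne : (χ : G → ℂ) ≠ fun _ => 1) : ∃ g : G, (χ : G → ℂ) g ≠ (χ : G → ℂ) 1 := by
  by_contra hcon
  push Not at hcon
  have h := classInner_isIrr_ne (isIrr_one (G := G)) χ.2 fun e => hne e.symm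
  have hc : (χ : G → ℂ) = (χ : G → ℂ) 1 • fun _ => (1 : ℂ) := funext fun g => by simp [hcon g]
  rw [hc] at h
  simp only [Cfsg.classInner, Pi.smul_apply, smul_eq_mul, mul_one, one_mul, Finset.sum_const,
    Finset.card_univ, nsmul_eq_mul, Fintype.card_eq_nat_card, mul_eq_zero, inv_eq_zero,
    natCard_ne_zero, false_or, map_eq_zero] at h
  exact irr_one_ne_zero χ.2 h

theorem cubes_eq {a b : ℂ} (h1 : a + b = 1) (h2 : a * a + b * b = -15) :
    a * a * a + b * b * b = -23 := by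
  have hab : a * b = 8 := by linear_combination (1 / 2 : ℂ) * ((a + b + 1) * h1 - h2)
  linear_combination ((a + b) ^ 2 + (a + b) + 1 - 3 * (a * b)) * h1 - 3 * hab

variable {G : Type} [Group G] [Fintype G]
variable {ρ : Representation ℂ G (Fin 16 → ℂ)} [ρ.IsIrreducible] {L : Local 31 G} {u : G}
  (H : Lin16 ρ L u)

include H

theorem Lin16.thirtyone_e : Nat.card (auts u H.pow) = 15 := by
  obtain ⟨_, -, -, ⟨h, -⟩ | ⟨-, h⟩⟩ := H.cases
  · norm_num at h
  · exact h

/-- The coefficients of the symmetric square. -/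
theorem Lin16.cc_sym {ψ : G → ℂ} {l₀ : ZMod 31} (hl₀ : l₀ ≠ 0) (h₀ : Unit1 u H.pow ψ l₀ 1) :
    cc u (fun g => (ψ g * ψ g + ψ (g * g)) / 2) l₀ = -3 ∧
      cc u (fun g => (ψ g * ψ g + ψ (g * g)) / 2) (3 * l₀) = -4 ∧
      ∑ l ∈ Finset.univ.erase (0 : ZMod 31),
        cc u (fun g => (ψ g * ψ g + ψ (g * g)) / 2) l = -105 := by
  classical
  set F : G → ℂ := fun g => (ψ g * ψ g + ψ (g * g)) / 2
  set G1 : G → ℂ := fun g => ψ g * ψ g
  set G2 : G → ℂ := fun g => ψ (g * g)
  have hF : F = (2 : ℂ)⁻¹ • G1 + (2 : ℂ)⁻¹ • G2 := funext fun g => by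
    simp only [F, G1, G2, Pi.add_apply, Pi.smul_apply, smul_eq_mul]; ring
  have hval : ∀ i : ZMod 31, i ≠ 0 →
      ψ (upow u i) = -∑ a ∈ sq31, (ZMod.stdAddChar (i * (a * l₀)) : ℂ) := by
    intro i hi
    rw [value_unit1 hl₀ h₀ hi, orbF_thirtyone H.pow H.thirtyone_e hl₀,
      Finset.sum_image fun a _ b _ h => mul_right_cancel₀ hl₀ h, Int.cast_one, neg_mul, one_mul]
  have h1 : ∀ i : ZMod 31, i ≠ 0 → G1 (upow u i) =
      ∑ q ∈ sq31 ×ˢ sq31, (1 : ℂ) * ZMod.stdAddChar (i * ((q.1 + q.2) * l₀)) := by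
    intro i hi
    show ψ (upow u i) * ψ (upow u i) = _
    rw [hval i hi, neg_mul_neg, Finset.sum_mul_sum, Finset.sum_product]
    refine Finset.sum_congr rfl fun a _ => Finset.sum_congr rfl fun b _ => ?_
    rw [one_mul, ← std_add]
    ring_nf
  have h2 : ∀ i : ZMod 31, i ≠ 0 → G2 (upow u i) =
      ∑ a ∈ sq31, (-1 : ℂ) * ZMod.stdAddChar (i * (2 * a * l₀)) := by
    intro i hi
    have hi2 : i + i ≠ 0 := by
      rw [← two_mul]; exact mul_ne_zero (by decide) hi
    show ψ (upow u i * upow u i) = _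
    rw [← upow_add u H.pow, hval _ hi2, ← Finset.sum_neg_distrib]
    refine Finset.sum_congr rfl fun a _ => ?_
    rw [neg_mul, one_mul]
    ring_nf
  have hcc : ∀ c : ZMod 31, cc u F (c * l₀) =
      (2 : ℂ)⁻¹ * ((((sq31 ×ˢ sq31).filter fun q => q.1 + q.2 = 0).card : ℂ) -
        ((sq31 ×ˢ sq31).filter fun q => q.1 + q.2 = c).card) +
      (2 : ℂ)⁻¹ * (((sq31.filter fun a => 2 * a = c).card : ℂ) -
        (sq31.filter fun a => 2 * a = 0).card) := by
    intro c
    rw [hF, cc_add, cc_smul, cc_smul, cc_of_sum u (sq31 ×ˢ sq31) (fun _ => (1 : ℂ)) _ G1 h1,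
      cc_of_sum u sq31 (fun _ => (-1 : ℂ)) _ G2 h2]
    simp only [one_mul, neg_mul, neg_sub, Finset.sum_sub_distrib, Finset.sum_boole, mul_eq_zero,
      hl₀, or_false, mul_left_inj' hl₀]
  refine ⟨?_, ?_, ?_⟩
  · have h := hcc 1
    rw [one_mul, show ((sq31 ×ˢ sq31).filter fun q => q.1 + q.2 = 0).card = 0 by decide +kernel,
      show ((sq31 ×ˢ sq31).filter fun q => q.1 + q.2 = 1).card = 7 by decide +kernel,
      show (sq31.filter fun a => 2 * a = 1).card = 1 by decide +kernel,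
      show (sq31.filter fun a => 2 * a = 0).card = 0 by decide +kernel] at h
    rw [h]; norm_num
  · have h := hcc 3
    rw [show ((sq31 ×ˢ sq31).filter fun q => q.1 + q.2 = 0).card = 0 by decide +kernel,
      show ((sq31 ×ˢ sq31).filter fun q => q.1 + q.2 = 3).card = 8 by decide +kernel,
      show (sq31.filter fun a => 2 * a = 3).card = 0 by decide +kernel,
      show (sq31.filter fun a => 2 * a = 0).card = 0 by decide +kernel] at h
    rw [h]; norm_num
  · rw [Finset.sum_erase _ (cc_zero u F),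
      ← Equiv.sum_comp (Equiv.mulRight₀ l₀ hl₀) (fun l => cc u F l)]
    show ∑ c : ZMod 31, cc u F (c * l₀) = -105
    simp only [hcc]
    rw [Finset.sum_add_distrib, ← Finset.mul_sum, ← Finset.mul_sum, Finset.sum_sub_distrib,
      Finset.sum_sub_distrib, Finset.sum_const, Finset.sum_const, Finset.card_univ, ZMod.card,
      ← Nat.cast_sum, ← Nat.cast_sum,
      show ((sq31 ×ˢ sq31).filter fun q => q.1 + q.2 = 0).card = 0 by decide +kernel,
      show (sq31.filter fun a => 2 * a = 0).card = 0 by decide +kernel,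
      show (∑ c : ZMod 31, ((sq31 ×ˢ sq31).filter fun q => q.1 + q.2 = c).card) = 225 by
        decide +kernel,
      show (∑ c : ZMod 31, (sq31.filter fun a => 2 * a = c).card) = 15 by decide +kernel]
    norm_num

/-- One symmetric square. -/
theorem Lin16.sym_step {φ : L.K →* ℂˣ} {ψ : IrrCharacter G} (hψ : Over L φ (ψ : G → ℂ))
    {l₀ : ZMod 31} (hl₀ : l₀ ≠ 0) (h₀ : Unit1 u H.pow (ψ : G → ℂ) l₀ 1)
    (h16 : (ψ : G → ℂ) 1 = 16) :
    (∃ χ : IrrCharacter G, Cfsg.charDegree (χ : G → ℂ) = 15 ∧ (χ : G → ℂ) u ≠ (χ : G → ℂ) 1) ∨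
      ∃ χ : IrrCharacter G, Over L (φ ^ 2) (χ : G → ℂ) ∧
        Unit1 u H.pow (χ : G → ℂ) 1 1 ∧ (χ : G → ℂ) 1 = 16 := by
  classical
  obtain ⟨χ, hχ, s, hs, h1⟩ := exists_unit1 H.mem H.ne H.K_center H.two_mul_e (φ ^ 2)
    (one_ne_zero (α := ZMod 31))
  obtain ⟨k, hk⟩ := deg_unit1 H.mem H.ne one_ne_zero h1
  rw [H.thirtyone_e] at hk
  set F : G → ℂ := fun g => ((ψ : G → ℂ) g * (ψ : G → ℂ) g + (ψ : G → ℂ) (g * g)) / 2 with hFdef
  have hF : Cfsg.IsCharacter G F := SmallValue.isCharacter_sym (isCharacter_of_isIrr ψ.2)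
  have hFo : Over L (φ ^ 2) F := fun g a => by
    have hc : g * (a : G) * (g * (a : G)) = g * g * ((a * a : L.K) : G) := by
      have hac : g * (a : G) = (a : G) * g :=
        Subgroup.mem_center_iff.1 (H.K_center ▸ a.2 : (a : G) ∈ Subgroup.center G) g
      rw [Subgroup.coe_mul, mul_assoc g (a : G), ← mul_assoc (a : G) g, ← hac]
      group
    show ((ψ : G → ℂ) (g * a) * (ψ : G → ℂ) (g * a) + (ψ : G → ℂ) (g * a * (g * a))) / 2 = _
    rw [hc, hψ, hψ, map_mul, Units.val_mul, MonoidHom.pow_apply, Units.val_pow_eq_pow_val]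
    show _ = _ * (((ψ : G → ℂ) g * (ψ : G → ℂ) g + (ψ : G → ℂ) (g * g)) / 2)
    ring
  obtain ⟨m, v, V, R, θ, -, hcc, hv, -, -, -, -, -, -, hdeg⟩ :=
    decomp H.mem H.ne H.K_center H.two_mul_e hχ one_ne_zero hs h1 hF hFo
  rw [H.thirtyone_e] at hv
  have hfv : ∀ t ∈ flatSet (L := L) u (φ ^ 2), ∃ a : ℤ, (t : G → ℂ) u = a ∧
      0 ≤ (Cfsg.charDegree (t : G → ℂ) : ℤ) + 30 * a := by
    intro t htm
    obtain ⟨a, ha, hv, -, j, hj⟩ := flat_value H.mem H.ne H.K_center H.two_mul_e htm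
    have hd := Nat.pos_of_ne_zero (Blocks.charDegree_ne_zero t)
    exact ⟨a, hv, by rcases ha with rfl | rfl <;> omega⟩
  choose a ha had using hfv
  obtain ⟨A, hA⟩ : ∃ A : ℤ, A = ∑ t ∈ (flatSet (L := L) u (φ ^ 2)).attach, (m t.1 : ℤ) * a t.1 t.2 :=
    ⟨_, rfl⟩
  set D : ℕ := ∑ t ∈ flatSet (L := L) u (φ ^ 2), m t * Cfsg.charDegree (t : G → ℂ) with hD
  have hDA : 0 ≤ (D : ℤ) + 30 * A := by
    rw [hD, ← Finset.sum_attach, hA, Finset.mul_sum, Nat.cast_sum, ← Finset.sum_add_distrib]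
    refine Finset.sum_nonneg fun t _ => ?_
    have h := mul_nonneg (Nat.cast_nonneg (α := ℤ) (m t.1)) (had t.1 t.2)
    push_cast
    linarith
  have hccA : ∀ l : ZMod 31, l ≠ 0 → cc u F l = ((A + s * v l : ℤ) : ℂ) := by
    intro l hl
    have hAc : (A : ℂ) = ∑ t ∈ flatSet (L := L) u (φ ^ 2), (m t : ℂ) * (t : G → ℂ) u := by
      rw [hA, Int.cast_sum, ← Finset.sum_attach (flatSet (L := L) u (φ ^ 2))
        (fun t => (m t : ℂ) * (t : G → ℂ) u)]
      exact Finset.sum_congr rfl fun t _ => by rw [Int.cast_mul, Int.cast_natCast, ha t.1 t.2]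
    rw [hcc l hl, ← hAc, Int.cast_add, Int.cast_mul, Int.cast_natCast]
  obtain ⟨hc3, hc4, hc105⟩ := H.cc_sym hl₀ h₀
  have h3 : (3 : ZMod 31) * l₀ ≠ 0 := mul_ne_zero (by decide) hl₀
  rw [← hFdef, hccA l₀ hl₀] at hc3
  rw [← hFdef, hccA _ h3] at hc4
  rw [← hFdef, Finset.sum_congr rfl fun l hl => hccA l (Finset.ne_of_mem_erase hl), ← Int.cast_sum,
    Finset.sum_add_distrib, Finset.sum_const, ← Finset.mul_sum,
    Finset.card_erase_of_mem (Finset.mem_univ _), Finset.card_univ, ZMod.card, ← Nat.cast_sum, hv]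
    at hc105
  have e3 : A + s * v l₀ = -3 := by exact_mod_cast hc3
  have e4 : A + s * v (3 * l₀) = -4 := by exact_mod_cast hc4
  have e105 : 30 * A + s * (15 * (V : ℤ)) = -105 := by
    simp only [nsmul_eq_mul] at hc105
    norm_num at hc105
    exact_mod_cast hc105
  set y := Cfsg.charDegree (χ : G → ℂ) with hy
  have e136 : 136 = D + V * y + R := by
    have h : ((136 : ℕ) : ℂ) = ((D + V * y + R : ℕ) : ℂ) := by
      rw [hD, hy, ← hdeg]
      show _ = ((ψ : G → ℂ) 1 * (ψ : G → ℂ) 1 + (ψ : G → ℂ) (1 * 1)) / 2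
      rw [mul_one, h16]
      norm_num
    exact_mod_cast h
  have hne := unit_nonconst H.mem H.ne H.K_center H.two_mul_e one_ne_zero hs h1
  have hy1 : (χ : G → ℂ) 1 = (y : ℂ) := (Blocks.charDegree_cast χ).symm
  rcases hs with rfl | rfl
  · refine Or.inr ⟨χ, hχ, h1, ?_⟩
    have hV : y ≤ V * y := Nat.le_mul_of_pos_left _ (by omega)
    rw [hy1, show y = 16 by omega]
    norm_num
  · refine Or.inl ⟨χ, ?_, hne⟩
    rw [← hy]
    have hV : y ≤ V * y := Nat.le_mul_of_pos_left _ (by omega)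
    have h46 : y ≠ 46 := fun he => by
      obtain ⟨n, -, -, hn, hd⟩ := ClassPairs.exists_irr_degree χ
      exact H.not_dvd_card (q := 23) (by norm_num) (by norm_num) (by norm_num)
        ((show 23 ∣ n by rw [← hn, ← hy, he]; norm_num).trans hd)
    by_cases hA2 : -2 ≤ A
    · have h3y : 3 * y ≤ V * y := Nat.mul_le_mul_right y (by omega)
      omega
    · omega

/-- There is no unit row of degree 16 and sign one over the trivial character. -/
theorem Lin16.no_sixteen_one {ψ : IrrCharacter G} (hψ : Over L 1 (ψ : G → ℂ))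
    (h₀ : Unit1 u H.pow (ψ : G → ℂ) 1 1) (h16 : (ψ : G → ℂ) 1 = 16) : False := by
  classical
  have h15 := H.thirtyone_e
  have hnc : ¬ IsConj u (upow u (-1 : ZMod 31)) :=
    not_isConj_inv H.mem H.ne (by norm_num) (by rw [h15]; decide)
  obtain ⟨χ, hχ, s, hs, h3⟩ := exists_unit1 H.mem H.ne H.K_center H.two_mul_e (1 : L.K →* ℂˣ)
    (show (3 : ZMod 31) ≠ 0 by decide)
  obtain rfl : s = 1 := (regular_unit1 H.mem H.ne H.K_center H.two_mul_e hψ hχ one_ne_zero
    (by decide) (Or.inl rfl) hs h₀ h3).1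
  have hψχ : ψ ≠ χ := fun he => by
    have hoff : ¬ SameOrb u H.pow 1 3 := fun h => by
      have h' := mem_orbF.2 h
      rw [orbF_thirtyone H.pow h15 one_ne_zero] at h'
      revert h'
      decide +kernel
    have e0 := (h₀ 3 (by decide)).2 hoff
    rw [he, (h3 3 (by decide)).1 (sameOrb_refl 3)] at e0
    norm_num at e0
  have hU : unitSet H.mem (1 : L.K →* ℂˣ) = {ψ, χ} := by
    refine Finset.ext fun t => ⟨fun ht => ?_, fun ht => ?_⟩
    · obtain ⟨hov, l₁, s, hl₁, hs, hl⟩ := (mem_unitSet H.mem).1 ht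
      have key : ∀ c : ZMod 31, SameOrb u H.pow c l₁ → Unit1 u H.pow (t : G → ℂ) c s :=
        fun c hc l hl0 => ⟨fun h => (hl l hl0).1 (sameOrb_trans (sameOrb_symm hc) h),
          fun h => (hl l hl0).2 fun h' => h (sameOrb_trans hc h')⟩
      rcases classes31 l₁ hl₁ with hq | hq
      · have h := sameOrb_thirtyone H.pow h15 one_ne_zero hq
        rw [mul_one] at h
        rw [unit1_eq H.mem H.ne H.K_center H.two_mul_e hov hψ one_ne_zero hs (Or.inl rfl) (key 1 h) h₀]
        simp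
      · have h := sameOrb_thirtyone H.pow h15 (show (3 : ZMod 31) ≠ 0 by decide) hq
        rw [mul_assoc, show (21 : ZMod 31) * 3 = 1 by decide, mul_one] at h
        rw [unit1_eq H.mem H.ne H.K_center H.two_mul_e hov hχ (by decide) hs (Or.inl rfl) (key 3 h) h3]
        simp
    · rcases Finset.mem_insert.1 ht with rfl | ht
      · exact (mem_unitSet H.mem).2 ⟨hψ, 1, 1, one_ne_zero, Or.inl rfl, h₀⟩
      · rw [Finset.mem_singleton.1 ht]
        exact (mem_unitSet H.mem).2 ⟨hχ, 3, 1, by decide, Or.inl rfl, h3⟩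
  have hinv : ∀ t : IrrCharacter G,
      conj ((t : G → ℂ) (upow u (-1 : ZMod 31))) = (t : G → ℂ) u := fun t => by
    rw [upow_neg H.pow, upow_one, character_inv (isCharacter_of_isIrr t.2), Complex.conj_conj]
  have h3val : ∀ t : IrrCharacter G,
      (t : G → ℂ) (upow u (3 : ZMod 31)) = (t : G → ℂ) (upow u (-1 : ZMod 31)) := by
    intro t
    obtain ⟨g, hg⟩ := conj_thirtyone H.pow h15 (show (10 : ZMod 31) ∈ sq31 by decide +kernel)
    refine classFunction_isConj (isClassFunction_of_isIrr t.2) (isConj_iff.2 ⟨g, ?_⟩)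
    show g * u ^ (3 : ZMod 31).val * g⁻¹ = _
    rw [← conj_pow, hg, upow_pow u H.pow]
    congr 1
  have hsum := unit_sum H.mem H.ne H.K_center H.two_mul_e hψ one_ne_zero (Or.inl rfl) h₀
  have hsq : ∑ t ∈ unitSet H.mem (1 : L.K →* ℂˣ), (t : G → ℂ) u * (t : G → ℂ) u = -15 := by
    have h := unit_cross H.mem H.ne H.K_center H.two_mul_e (φ := (1 : L.K →* ℂˣ)) (by decide) hnc
    rw [Finset.sum_congr rfl fun t _ => by rw [hinv t], h15] at h
    rw [h]; norm_num
  rw [hU, Finset.sum_pair hψχ] at hsum hsq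
  rw [Int.cast_one] at hsum
  have hcube := cubes_eq hsum hsq
  obtain ⟨t₀, ht₀, ht₀o, ht₀f⟩ := exists_triv (p := 31) (L := L) u
  have ht₀m : t₀ ∈ flatSet (L := L) u 1 := mem_flatSet.2 ⟨ht₀o, 1, one_ne_zero, ht₀f⟩
  obtain ⟨r, -, hr, -, -, hpos⟩ := tsum_bound H.K_center u u (upow u (3 : ZMod 31))
  have hr0 : 0 < r := by
    obtain ⟨g, hg⟩ := conj_thirtyone H.pow h15 (show (2 : ZMod 31) ∈ sq31 by decide +kernel)
    refine hpos ⟨1, g, 1, ?_⟩
    rw [one_mul, inv_one, mul_one, hg, OneMemClass.coe_one, mul_one, show (3 : ZMod 31) = 1 + 2 by decide,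
      upow_add u H.pow, upow_one]
  have heval : tsum (L := L) u u (upow u (3 : ZMod 31)) 1 =
      ∑ t ∈ flatSet (L := L) u 1, (t : G → ℂ) u * ((t : G → ℂ) u / (t : G → ℂ) 1 *
        conj ((t : G → ℂ) (upow u (3 : ZMod 31)))) + (-23) / 16 := by
    rw [tsum, Finset.sum_congr rfl (g := fun t : IrrCharacter G => (t : G → ℂ) u * ((t : G → ℂ) u /
        (t : G → ℂ) 1 * conj ((t : G → ℂ) (upow u (3 : ZMod 31))))) fun t _ => by ring,
      sum_rows H.mem H.ne H.K_center H.two_mul_e, hU, Finset.sum_pair hψχ]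
    congr 1
    rw [h3val, h3val, hinv, hinv,
      unit_one H.mem H.ne H.K_center H.two_mul_e hψ one_ne_zero (Or.inl rfl) h₀
        (χ := χ) (by rw [hU]; simp), h16, ← hcube]
    ring
  have hterm : ∀ t ∈ (flatSet (L := L) u 1).erase t₀,
      ((t : G → ℂ) u * ((t : G → ℂ) u / (t : G → ℂ) 1 *
        conj ((t : G → ℂ) (upow u (3 : ZMod 31))))).re ≤ (1 : ℝ) / 32 := by
    intro t ht
    have htm := Finset.mem_of_mem_erase ht
    obtain ⟨a, ha, hv, hvi, j, hj⟩ := flat_value H.mem H.ne H.K_center H.two_mul_e htm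
    rw [hv, hvi 3 (by decide), ← Blocks.charDegree_cast t, map_intCast]
    have hgt := H.deg_sq_gt (mem_flatSet.1 htm).1 (exists_ne_one_value fun he =>
      Finset.ne_of_mem_erase ht (Subtype.ext (he.trans ht₀.symm)))
    have hd0 := Nat.pos_of_ne_zero (Blocks.charDegree_ne_zero t)
    rcases ha with rfl | rfl
    · have h32 : 32 ≤ Cfsg.charDegree (t : G → ℂ) := by
        by_contra hlt
        obtain h1 : Cfsg.charDegree (t : G → ℂ) = 1 := by omega
        rw [h1] at hgt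
        norm_num at hgt
      rw [show ((1 : ℤ) : ℂ) * (((1 : ℤ) : ℂ) / (Cfsg.charDegree (t : G → ℂ) : ℂ) * ((1 : ℤ) : ℂ)) =
        (((1 : ℝ) / (Cfsg.charDegree (t : G → ℂ) : ℝ) : ℝ) : ℂ) by push_cast; ring, Complex.ofReal_re]
      exact one_div_le_one_div_of_le (by norm_num) (by exact_mod_cast h32)
    · rw [show ((-1 : ℤ) : ℂ) * (((-1 : ℤ) : ℂ) / (Cfsg.charDegree (t : G → ℂ) : ℂ) *
        ((-1 : ℤ) : ℂ)) = ((-((1 : ℝ) / (Cfsg.charDegree (t : G → ℂ) : ℝ)) : ℝ) : ℂ) by
          push_cast; ring, Complex.ofReal_re]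
      have : (0 : ℝ) ≤ 1 / (Cfsg.charDegree (t : G → ℂ) : ℝ) := by positivity
      linarith
  have hbound : r ≤ 1 + 14 * (1 / 32 : ℝ) - 23 / 16 := by
    have h := congrArg Complex.re (hr.symm.trans heval)
    rw [Complex.ofReal_re, Complex.add_re, ← Finset.add_sum_erase _ _ ht₀m, Complex.add_re,
      Complex.re_sum, ht₀] at h
    have h14 := Finset.sum_le_card_nsmul _ _ _ hterm
    rw [Finset.card_erase_of_mem ht₀m, card_flatSet H.mem H.ne H.K_center H.two_mul_e, h15] at h14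
    norm_num at h h14
    linarith
  linarith

/-- A character of degree 15. -/
theorem Lin16.exists_fifteen :
    ∃ χ : IrrCharacter G, Cfsg.charDegree (χ : G → ℂ) = 15 ∧ (χ : G → ℂ) u ≠ (χ : G → ℂ) 1 := by
  classical
  by_contra hcon
  obtain ⟨l₀, hl₀, hm, -⟩ := H.cases
  obtain ⟨φ, hφ, -, h16⟩ := H.exists_phi
  have key : ∀ j : ℕ, ∃ (ψ : IrrCharacter G) (l : ZMod 31), l ≠ 0 ∧ (0 < j → l = 1) ∧
      Over L (φ ^ 2 ^ j) (ψ : G → ℂ) ∧ Unit1 u H.pow (ψ : G → ℂ) l 1 ∧ (ψ : G → ℂ) 1 = 16 := by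
    intro j
    induction j with
    | zero =>
      refine ⟨irrOf ρ, l₀, hl₀, fun h => absurd h (lt_irrefl 0), by rw [pow_zero, pow_one]; exact hφ,
        H.unit1 hm hl₀, ?_⟩
      show ρ.character 1 = 16
      rw [Representation.char_one, Module.finrank_fin_fun]
      norm_num
    | succ j ih =>
      obtain ⟨ψ, l, hl, -, hov, hu1, hd⟩ := ih
      rcases H.sym_step hov hl hu1 hd with h | ⟨χ, h1, h2, h3⟩
      · exact absurd h hcon
      · exact ⟨χ, 1, one_ne_zero, fun _ => rfl, by rw [pow_succ, pow_mul]; exact h1, h2, h3⟩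
  obtain ⟨ψ, l, -, hl, hov, hu1, hd⟩ := key 4
  rw [hl (by norm_num)] at hu1
  rw [show 2 ^ 4 = 16 by norm_num, h16] at hov
  exact H.no_sixteen_one hov hu1 hd

/-- The quotient by the centre is `PSL(2, 31)`. -/
theorem Lin16.psl31 : Nonempty
    ((G ⧸ Subgroup.center G) ≃* Matrix.ProjectiveSpecialLinearGroup (Fin 2) (ZMod 31)) := by
  classical
  obtain ⟨χ, hd, hne⟩ := H.exists_fifteen
  obtain ⟨n, σ, hσ, hσχ⟩ := id χ.2
  have hn : n = 15 := by
    rw [← hd, ← hσχ]; simp [Cfsg.charDegree, Representation.char_one]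
  subst hn
  set f := toIm σ
  have hf := toIm_surjective σ
  haveI : Finite (Im σ) := Finite.of_surjective _ hf
  have hu : f u ≠ 1 := fun h => hne (by
    rw [← hσχ]
    show LinearMap.trace ℂ _ (σ u) = LinearMap.trace ℂ _ (σ 1)
    rw [(toIm_eq_one_iff σ u).1 h, map_one σ])
  have hfu : orderOf (f u) = 31 := orderOf_eq_prime (by rw [← map_pow, H.pow, map_one]) hu
  have hnab : ¬ ∀ a b : Im σ, a * b = b * a := fun hab => hu (by
    have hle : commutator G ≤ f.ker := by
      rw [commutator_eq_closure, Subgroup.closure_le]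
      rintro _ ⟨a, b, rfl⟩
      rw [SetLike.mem_coe, MonoidHom.mem_ker, map_commutatorElement,
        commutatorElement_eq_one_iff_commute]
      exact hab _ _
    rw [H.perfect] at hle
    exact hle (Subgroup.mem_top u))
  have hfull : ∀ M : Subgroup G, M.Normal → 31 ∣ Nat.card M → M = ⊤ := by
    intro M hM hd
    haveI := hM
    obtain ⟨w, hw⟩ := exists_prime_orderOf_dvd_card' (G := M) 31 hd
    exact H.gen.eq_top fun y hy => by
      by_cases h1 : y = 1
      · rw [h1]; exact one_mem _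
      · exact SmallDegreeP.mem_normal_of_orderOf H.sq w.2 (by rw [Subgroup.orderOf_coe]; exact hw)
          (orderOf_of_pelem H.sq hy h1)
  have hnn : ∀ N : Subgroup (Im σ), N.Normal → Nat.card N ≠ 31 := by
    intro N hN hc
    haveI := hN
    have htop : N.comap f = ⊤ := hfull _ (hN.comap f) ((dvd_of_eq hc.symm).trans
      (Subgroup.card_dvd_of_surjective (f.subgroupComap N)
        (MonoidHom.subgroupComap_surjective_of_surjective f N hf)))
    have hNtop : N = ⊤ := Subgroup.comap_injective hf (htop.trans (Subgroup.comap_top f).symm)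
    haveI : IsCyclic N := isCyclic_of_prime_card hc
    exact hnab fun a b => congrArg Subtype.val (show
      (⟨a, hNtop ▸ Subgroup.mem_top a⟩ : N) * ⟨b, hNtop ▸ Subgroup.mem_top b⟩ = _ * _ from
        IsCyclic.isMulCommutative.is_comm.comm _ _)
  obtain ⟨e⟩ := SmallModP.nonempty_quotient_center_equiv (p := 31)
    (hfu ▸ orderOf_dvd_natCard _)
    (fun h => H.sq (h.trans (Subgroup.card_dvd_of_surjective f hf))) hnn (imRep σ)
    (imRep_injective σ) (by norm_num)
  let F : G →* Im σ ⧸ Subgroup.center (Im σ) := (QuotientGroup.mk' _).comp f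
  have hker : F.ker = Subgroup.center G := by
    refine le_antisymm ?_ fun z hz => ?_
    · rw [← H.K_center]
      refine H.normal_le_K _ fun hd => hnab fun a b => ?_
      obtain ⟨x, rfl⟩ := hf a
      have h : x ∈ F.ker := (hfull _ (MonoidHom.normal_ker F) hd).ge (Subgroup.mem_top x)
      rw [MonoidHom.mem_ker, MonoidHom.comp_apply, QuotientGroup.mk'_apply,
        QuotientGroup.eq_one_iff] at h
      exact (Subgroup.mem_center_iff.1 h b).symm
    · rw [MonoidHom.mem_ker, MonoidHom.comp_apply, QuotientGroup.mk'_apply, QuotientGroup.eq_one_iff]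
      refine Subgroup.mem_center_iff.2 fun b => ?_
      obtain ⟨x, rfl⟩ := hf b
      rw [← map_mul, ← map_mul, Subgroup.mem_center_iff.1 hz x]
  exact ⟨((QuotientGroup.quotientMulEquivOfEq hker.symm).trans
    (QuotientGroup.quotientKerEquivOfSurjective F
      ((QuotientGroup.mk'_surjective _).comp hf))).trans e⟩

end CfsgLib.DegreeSixteen
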